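import Cfsg.Agent.Lib.CoFive.Setting
import Cfsg.Agent.Lib.HJ.AltFive
import Mathlib.GroupTheory.SpecificGroups.Alternating

/-!
The centraliser of the part of the extraspecial subgroup over an elliptic four-space: an extension of the
extraspecial part over the orthogonal space by `A₅`, generated by elements of odd order.
-/

set_option autoImplicit false
set_option linter.style.haveILetI false
set_option linter.unusedSectionVars false
set_option maxRecDepth 20000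
set_option synthInstance.maxSize 4000
set_option synthInstance.maxHeartbeats 400000

namespace Cfsg.Agent.CoFive

open Cfsg.Agent.CoT Equiv Subgroup

local notation "F" => ZMod 2

variable {G : Type*} [Group G] {z : G} {Q : Subgroup G} {π : G → V} {ρ : G → V → V}

/-- The part of `Q` over the orthogonal of the five vectors. -/
def U (Q : Subgroup G) (π : G → V) (t : Fin 5 → V) : Subgroup G :=
  closure {x | x ∈ Q ∧ Perp t (π x)}

/-- Its centraliser. -/
abbrev Cen (Q : Subgroup G) (π : G → V) (t : Fin 5 → V) : Subgroup G :=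
  centralizer (U Q π t : Set G)

variable [Finite G] {s t : Fin 5 → V}

theorem mem_U (S : Su z Q π ρ) {x : G} : x ∈ U Q π t ↔ x ∈ Q ∧ Perp t (π x) := by
  refine ⟨fun h => ?_, fun h => subset_closure h⟩
  induction h using closure_induction with
  | mem q hq => exact hq
  | one => exact ⟨one_mem _, fun i => by rw [S.pi_one, bil_zero_left]⟩
  | mul p q _ _ hp hq =>
    exact ⟨mul_mem hp.1 hq.1, fun i => by rw [S.pi_mul p hp.1 q hq.1, bil_add_left, hp.2 i, hq.2 i, add_zero]⟩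
  | inv p _ hp => exact ⟨inv_mem hp.1, fun i => by rw [S.pi_inv hp.1]; exact hp.2 i⟩

theorem z_mem_U (S : Su z Q π ρ) : z ∈ U Q π t :=
  (mem_U S).2 ⟨S.loc.mem, fun i => by rw [S.pi_z, bil_zero_left]⟩

theorem cen_z (S : Su z Q π ρ) {x : G} (hx : x ∈ Cen Q π t) : x * z = z * x :=
  (mem_centralizer_iff.1 hx z (z_mem_U S)).symm

theorem cen_fix (S : Su z Q π ρ) (T : Two s t) {x : G} (hx : x ∈ Cen Q π t) (i : Fin 5) :
    ρ x (s i) = s i := by
  obtain ⟨u, hu, e⟩ := S.pi_surj (s i)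
  have h := mem_centralizer_iff.1 hx u ((mem_U S).2 ⟨hu, by rw [e]; exact T.perp_self i⟩)
  rw [← e, ← S.conj x (cen_z S hx) u hu, ← h, mul_inv_cancel_right]

theorem cen_perm (S : Su z Q π ρ) (T : Two s t) {x : G} (hx : x ∈ Cen Q π t) :
    ∃ τ : Perm (Fin 5), (∀ i, ρ x (t i) = t (τ i)) ∧ Perm.sign τ = 1 := by
  have hom := S.om x (cen_z S hx)
  obtain ⟨τ, hτ⟩ := T.right.exists_perm hom.q_eq hom.bil_eq fun i => T.symm.perp_iff.1 fun j => by
    rw [← cen_fix S T hx j, hom.bil_eq, bil_comm, T.orth]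
  exact ⟨τ, hτ, ((T.sign_eq hom (σ := 1) (fun i => cen_fix S T hx i) hτ).symm).trans Perm.sign_one⟩

/-- The action on the five orthogonal vectors. -/
theorem exists_cen_hom (S : Su z Q π ρ) (T : Two s t) : ∃ ψ : ↥(Cen Q π t) →* HJ.A5,
    (∀ (x : ↥(Cen Q π t)) i, ρ (x : G) (t i) = t ((ψ x : Perm (Fin 5)) i)) ∧ ∀ x, ψ x = 1 ↔ (x : G) ∈ Q := by
  have h : ∀ x : Cen Q π t, ∃ τ : HJ.A5, ∀ i, ρ (x : G) (t i) = t ((τ : Perm (Fin 5)) i) := fun x => by
    obtain ⟨τ, h1, h2⟩ := cen_perm S T x.2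
    exact ⟨⟨τ, Perm.mem_alternatingGroup.2 h2⟩, h1⟩
  choose f hf using h
  refine ⟨MonoidHom.mk' f fun x y => Subtype.ext (Equiv.ext fun i => T.right.inj ?_), hf, fun x => ?_⟩
  · rw [← hf (x * y), Subgroup.coe_mul, S.rho_mul (cen_z S x.2) (cen_z S y.2), hf y, hf x]
    rfl
  · show f x = 1 ↔ _
    rw [← S.ker x (cen_z S x.2)]
    constructor
    · intro e
      have h := T.ext (f := ρ (x : G)) (g := fun v => v) (S.rho_add (cen_z S x.2)) (fun _ _ => rfl)
        (cen_fix S T x.2) fun i => by rw [hf x i, e]; rfl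
      exact congrFun h
    · intro e
      refine Subtype.ext (Equiv.ext fun i => T.right.inj ?_)
      rw [← hf x i, e]
      rfl

theorem mem_cen_of_gens (S : Su z Q π ρ) (T : Two s t) {x : G} (hz : x * z = z * x)
    {u : Fin 5 → G} (huQ : ∀ i, u i ∈ Q) (hu : ∀ i, π (u i) = s i)
    (hc : ∀ i, i ≠ 4 → x * u i = u i * x) : x ∈ Cen Q π t := by
  refine mem_centralizer_iff.2 fun w hw => ?_
  obtain ⟨hwQ, hwP⟩ := (mem_U S).1 hw
  obtain ⟨a, b, c, d, e⟩ := T.left.span_eq (T.perp_iff.1 hwP)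
  have hz' : ∀ (g : G) (k : F), g ∈ Q → π (zb g k) = sm k (π g) ∧ zb g k ∈ Q := fun g k hg => by
    rcases F_cases k with h | h <;> rw [h]
    exacts [⟨by rw [zb_zero, sm_zero, S.pi_one], by rw [zb_zero]; exact one_mem _⟩,
      ⟨by rw [zb_one, sm_one], by rwa [zb_one]⟩]
  set p := zb (u 0) a * zb (u 1) b * zb (u 2) c * zb (u 3) d with hp
  have hpQ : p ∈ Q := mul_mem (mul_mem (mul_mem (hz' _ a (huQ 0)).2 (hz' _ b (huQ 1)).2)
    (hz' _ c (huQ 2)).2) (hz' _ d (huQ 3)).2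
  have hpi : π p = π w := by
    rw [e, hp, S.pi_mul _ (mul_mem (mul_mem (hz' _ a (huQ 0)).2 (hz' _ b (huQ 1)).2) (hz' _ c (huQ 2)).2)
      _ (hz' _ d (huQ 3)).2, S.pi_mul _ (mul_mem (hz' _ a (huQ 0)).2 (hz' _ b (huQ 1)).2) _
      (hz' _ c (huQ 2)).2, S.pi_mul _ (hz' _ a (huQ 0)).2 _ (hz' _ b (huQ 1)).2, (hz' _ a (huQ 0)).1,
      (hz' _ b (huQ 1)).1, (hz' _ c (huQ 2)).1, (hz' _ d (huQ 3)).1, hu, hu, hu, hu]
    rfl
  have hcp : Commute x p := by
    have hb : ∀ i (k : F), i ≠ 4 → Commute x (zb (u i) k) := fun i k hi => zb_comm (hc i hi) k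
    exact (((hb 0 a (by decide)).mul_right (hb 1 b (by decide))).mul_right
      (hb 2 c (by decide))).mul_right (hb 3 d (by decide))
  rcases S.eq_of_pi hwQ hpQ hpi.symm with e' | e' <;> rw [e']
  · exact hcp.eq.symm
  · exact (hcp.mul_right (hz : Commute x z)).eq.symm

/-- Every map fixing the four-space lifts to the centraliser. -/
theorem cen_lift (S : Su z Q π ρ) (T : Two s t) {f : V → V} (hf : IsOm f) (hfix : ∀ i, f (s i) = s i) :
    ∃ h ∈ Cen Q π t, ρ h = f := by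
  obtain ⟨h, hh, hρ⟩ := S.lift f hf
  choose u hu hpu using fun i => S.pi_surj (s i)
  have hd : ∀ i, ∃ d : F, h * u i * h⁻¹ = u i * zb z d := fun i => by
    rcases S.eq_of_pi (S.conj_mem hh (hu i)) (hu i) (by rw [S.conj h hh _ (hu i), hρ, hpu, hfix]) with e | e
    · exact ⟨0, by rw [zb_zero, mul_one]; exact e⟩
    · exact ⟨1, by rw [zb_one]; exact e⟩
  choose d hd using hd
  set D := d 0 + d 1 + d 2 + d 3 with hD
  obtain ⟨y, hy, hpy⟩ := S.pi_surj (comb s (D + d 0) (D + d 1) (D + d 2) (D + d 3))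
  have hbil : ∀ i : Fin 5, i ≠ 4 → bil (π y) (s i) = d i := by
    intro i hi
    simp only [hpy, comb, bil_add_left, bil_sm_left, T.left.bil_eq]
    rw [hD]
    fin_cases i <;> simp_all <;>
      generalize d 0 = p0, d 1 = p1, d 2 = p2, d 3 = p3 <;>
      revert p0 p1 p2 p3 <;> decide
  have hyh : y * h * z = z * (y * h) := S.comm_mul (S.Qz hy) hh
  refine ⟨y * h, mem_cen_of_gens S T hyh hu hpu fun i hi => ?_, funext fun v => ?_⟩
  · refine mul_inv_eq_iff_eq_mul.1 ?_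
    calc y * h * u i * (y * h)⁻¹ = y * (h * u i * h⁻¹) * y⁻¹ := by group
      _ = y * u i * y⁻¹ * (y * zb z (d i) * y⁻¹) := by rw [hd i]; group
      _ = u i := by
        rw [S.conj_Q hy (hu i), hpu, hbil i hi, zb_comm (S.Qz hy), mul_inv_cancel_right, mul_assoc,
          ← zb_add S.loc.sq, F_add_self, zb_zero, mul_one]
  · rw [S.rho_mul (S.Qz hy) hh, S.rho_Q hy, hρ]

theorem cen_hom_surj (S : Su z Q π ρ) (T : Two s t) {ψ : ↥(Cen Q π t) →* HJ.A5}
    (hψ : ∀ (x : ↥(Cen Q π t)) i, ρ (x : G) (t i) = t ((ψ x : Perm (Fin 5)) i)) : Function.Surjective ψ := by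
  intro τ
  obtain ⟨f, hf, h1, h2⟩ := T.exists_om 1 τ
    (by rw [Perm.sign_one, Perm.mem_alternatingGroup.1 τ.2])
  obtain ⟨h, hh, e⟩ := cen_lift S T hf fun i => by rw [h1]; rfl
  exact ⟨⟨h, hh⟩, Subtype.ext (Equiv.ext fun i => T.right.inj (by rw [← hψ, e, h2]))⟩

theorem cen_inf_Q (S : Su z Q π ρ) (T : Two s t) {x : G} :
    x ∈ Cen Q π t ∧ x ∈ Q ↔ x ∈ U Q π s := by
  rw [mem_U S]
  constructor
  · rintro ⟨hx, hQ⟩
    refine ⟨hQ, fun i => ?_⟩
    obtain ⟨u, hu, e⟩ := S.pi_surj (s i)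
    rw [← e, ← S.comm_iff hQ hu]
    exact (mem_centralizer_iff.1 hx u ((mem_U S).2 ⟨hu, by rw [e]; exact T.perp_self i⟩)).symm
  · rintro ⟨hQ, hx⟩
    refine ⟨mem_centralizer_iff.2 fun u hu => ?_, hQ⟩
    obtain ⟨huQ, hu'⟩ := (mem_U S).1 hu
    obtain ⟨a, b, c, d, e⟩ := T.left.span_eq (T.perp_iff.1 hu')
    refine ((S.comm_iff hQ huQ).2 ?_).symm
    rw [e, comb, bil_add_right, bil_add_right, bil_add_right, bil_sm_right, bil_sm_right, bil_sm_right,
      bil_sm_right, hx 0, hx 1, hx 2, hx 3]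
    simp

theorem pow_odd_order {n k : ℕ} (h : G) (hk : orderOf h = 2 ^ k * n) (hn : Odd n) :
    Odd (orderOf (h ^ 2 ^ k)) := by
  rw [orderOf_pow, hk, Nat.gcd_eq_right (Dvd.intro n rfl), Nat.mul_div_cancel_left _ (by positivity)]
  exact hn

/-- The centraliser is generated by its elements of odd order. -/
theorem cen_gen (S : Su z Q π ρ) (T : Two s t) :
    closure {x | x ∈ Cen Q π t ∧ Odd (orderOf x)} = Cen Q π t := by
  obtain ⟨ψ, hψ, hker⟩ := exists_cen_hom S T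
  have hsurj := cen_hom_surj S T hψ
  set P := closure {x | x ∈ Cen Q π t ∧ Odd (orderOf x)} with hP
  have hle : P ≤ Cen Q π t := (closure_le _).2 fun x hx => hx.1
  refine le_antisymm hle ?_
  have htop : (P.subgroupOf (Cen Q π t)).map ψ = ⊤ := by
    refine top_le_iff.1 fun τ _ => ?_
    have h3 : ∀ σ : Perm (Fin 5), σ.IsThreeCycle →
        σ ∈ ((P.subgroupOf (Cen Q π t)).map ψ).map (alternatingGroup (Fin 5)).subtype := by
      intro σ hσ
      obtain ⟨h, hh⟩ := hsurj ⟨σ, hσ.mem_alternatingGroup⟩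
      obtain ⟨k, n, hn, hk⟩ := Nat.exists_eq_two_pow_mul_odd (orderOf_pos (h : G)).ne'
      have hmem : (h : G) ^ 2 ^ k ∈ P :=
        subset_closure ⟨pow_mem h.2 _, pow_odd_order _ hk hn⟩
      have hcases : (σ ^ 2 ^ k) ^ 2 ^ k = σ := by
        rw [← pow_mul, ← pow_mod_orderOf, hσ.orderOf,
          show 2 ^ k * 2 ^ k % 3 = 1 by
            rw [← mul_pow, Nat.pow_mod]; norm_num, pow_one]
      refine ⟨⟨(σ ^ 2 ^ k) ^ 2 ^ k, ?_⟩, ⟨(h ^ 2 ^ k) ^ 2 ^ k, pow_mem (show (h ^ 2 ^ k) ∈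
        P.subgroupOf (Cen Q π t) from hmem) _, ?_⟩, hcases⟩
      · rw [hcases]; exact hσ.mem_alternatingGroup
      · rw [map_pow, map_pow, hh]; exact Subtype.ext (by simp)
    have hτ : (τ : Perm (Fin 5)) ∈
        ((P.subgroupOf (Cen Q π t)).map ψ).map (alternatingGroup (Fin 5)).subtype := by
      have h := τ.2
      simp only [← Equiv.Perm.closure_three_cycles_eq_alternating] at h
      exact (closure_le _).2 h3 h
    obtain ⟨τ', h1, h2⟩ := hτ
    rwa [Subtype.ext h2] at h1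
  have hlift : ∀ τ : HJ.A5, ∃ p : Cen Q π t, (p : G) ∈ P ∧ ψ p = τ := fun τ => by
    obtain ⟨p, hp, e⟩ := htop.ge (mem_top τ)
    exact ⟨p, hp, e⟩
  -- conjugation preserves `P`
  have hconj : ∀ g ∈ Cen Q π t, ∀ p ∈ P, g * p * g⁻¹ ∈ P := by
    intro g hg p hp
    induction hp using closure_induction with
    | mem q hq =>
      refine subset_closure ⟨mul_mem (mul_mem hg hq.1) (inv_mem hg), ?_⟩
      rw [show g * q * g⁻¹ = MulAut.conj g q by rfl, MulEquiv.orderOf_eq]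
      exact hq.2
    | one => simp
    | mul a b _ _ iha ihb =>
      rw [show g * (a * b) * g⁻¹ = g * a * g⁻¹ * (g * b * g⁻¹) by group]; exact mul_mem iha ihb
    | inv a _ iha => rw [show g * a⁻¹ * g⁻¹ = (g * a * g⁻¹)⁻¹ by group]; exact inv_mem iha
  choose u hu hpu using fun i => S.pi_surj (t i)
  have huU : ∀ i, u i ∈ Cen Q π t := fun i =>
    ((cen_inf_Q S T).2 ((mem_U S).2 ⟨hu i, by rw [hpu]; exact T.symm.perp_self i⟩)).1
  -- commutators give pairs
  have hpair : ∀ i j : Fin 5, i ≠ j → ∃ w ∈ P, w ∈ Q ∧ π w = t i + t j := by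
    intro i j hij
    obtain ⟨k, hki, hkj⟩ : ∃ k, k ≠ i ∧ k ≠ j := by revert i j; decide
    set τ : HJ.A5 := ⟨Equiv.swap i k * Equiv.swap i j, Perm.mem_alternatingGroup.2 (by
      rw [Perm.sign_mul, Perm.sign_swap hki.symm, Perm.sign_swap hij]; decide)⟩ with hτ
    obtain ⟨p, hp, hpτ⟩ := hlift τ
    have hτi : (τ : Perm (Fin 5)) i = j := by
      show Equiv.swap i k (Equiv.swap i j i) = j
      rw [Equiv.swap_apply_left, Equiv.swap_apply_of_ne_of_ne hij.symm hkj.symm]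
    have hc := mul_mem (hconj _ (huU i) _ hp) (inv_mem hp)
    refine ⟨u i * p * (u i)⁻¹ * (p : G)⁻¹, hc, ?_, ?_⟩
    · rw [show u i * p * (u i)⁻¹ * (p : G)⁻¹ = u i * ((p : G) * (u i)⁻¹ * (p : G)⁻¹) by group]
      exact mul_mem (hu i) (S.conj_mem (cen_z S p.2) (inv_mem (hu i)))
    · rw [show u i * p * (u i)⁻¹ * (p : G)⁻¹ = u i * ((p : G) * (u i)⁻¹ * (p : G)⁻¹) by group,
        S.pi_mul _ (hu i) _ (S.conj_mem (cen_z S p.2) (inv_mem (hu i))),
        S.conj _ (cen_z S p.2) _ (inv_mem (hu i)), S.pi_inv (hu i), hpu, hψ, hpτ, hτi]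
  have hzP : z ∈ P := by
    obtain ⟨w₁, hw₁, hw₁Q, e₁⟩ := hpair 0 1 (by decide)
    obtain ⟨w₂, hw₂, hw₂Q, e₂⟩ := hpair 0 2 (by decide)
    have h := S.conj_Q hw₁Q hw₂Q
    have hb : bil (t 0 + t 1) (t 0 + t 2) = 1 := by
      simp only [bil_add_left, bil_add_right, T.right.bil_eq]; decide
    rw [e₁, e₂, hb, zb_one] at h
    have h2 := mul_mem (inv_mem hw₂) (mul_mem (mul_mem hw₁ hw₂) (inv_mem hw₁))
    rwa [h, inv_mul_cancel_left] at h2
  intro x hx
  obtain ⟨p, hp, hpx⟩ := hlift (ψ ⟨x, hx⟩)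
  set y := (p : G)⁻¹ * x with hy
  have hy' : y ∈ U Q π s := (cen_inf_Q S T).1 ⟨mul_mem (inv_mem p.2) hx,
    (hker (p⁻¹ * ⟨x, hx⟩)).1 (by rw [map_mul, map_inv, hpx, inv_mul_cancel])⟩
  suffices h : y ∈ P by
    have := mul_mem hp h
    rwa [hy, mul_inv_cancel_left] at this
  have hone : ∀ i, ∃ w ∈ P, w ∈ Q ∧ π w = t i := by
    intro i
    obtain ⟨a, b, c, d, hab, hcd, hsum⟩ : ∃ a b c d : Fin 5, a ≠ b ∧ c ≠ d ∧
        t i = t a + t b + (t c + t d) := by
      fin_cases i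
      · exact ⟨1, 2, 3, 4, by decide, by decide, by
          rw [T.right.sum]; show t 0 = _
          rw [show t 1 + t 2 + (t 3 + (t 0 + t 1 + t 2 + t 3)) =
            (t 1 + t 1) + (t 2 + t 2) + (t 3 + t 3) + t 0 by abel]
          simp [CoT.add_self]⟩
      · exact ⟨0, 2, 3, 4, by decide, by decide, by
          rw [T.right.sum]; show t 1 = _
          rw [show t 0 + t 2 + (t 3 + (t 0 + t 1 + t 2 + t 3)) =
            (t 0 + t 0) + (t 2 + t 2) + (t 3 + t 3) + t 1 by abel]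
          simp [CoT.add_self]⟩
      · exact ⟨0, 1, 3, 4, by decide, by decide, by
          rw [T.right.sum]; show t 2 = _
          rw [show t 0 + t 1 + (t 3 + (t 0 + t 1 + t 2 + t 3)) =
            (t 0 + t 0) + (t 1 + t 1) + (t 3 + t 3) + t 2 by abel]
          simp [CoT.add_self]⟩
      · exact ⟨0, 1, 2, 4, by decide, by decide, by
          rw [T.right.sum]; show t 3 = _
          rw [show t 0 + t 1 + (t 2 + (t 0 + t 1 + t 2 + t 3)) =
            (t 0 + t 0) + (t 1 + t 1) + (t 2 + t 2) + t 3 by abel]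
          simp [CoT.add_self]⟩
      · exact ⟨0, 1, 2, 3, by decide, by decide, by rw [← add_assoc]; exact T.right.sum⟩
    obtain ⟨w₁, hw₁, hw₁Q, e₁⟩ := hpair a b hab
    obtain ⟨w₂, hw₂, hw₂Q, e₂⟩ := hpair c d hcd
    exact ⟨w₁ * w₂, mul_mem hw₁ hw₂, mul_mem hw₁Q hw₂Q, by rw [S.pi_mul _ hw₁Q _ hw₂Q, e₁, e₂, ← hsum]⟩
  choose w hw hwQ hwπ using hone
  obtain ⟨hyQ, hyP⟩ := (mem_U S).1 hy'
  obtain ⟨a, b, c, d, e⟩ := T.right.span_eq (T.symm.perp_iff.1 hyP)
  have hz' : ∀ (g : G) (k : F), g ∈ Q → g ∈ P → π (zb g k) = sm k (π g) ∧ zb g k ∈ Q ∧ zb g k ∈ P :=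
    fun g k hg hg' => by
    rcases F_cases k with h | h <;> rw [h]
    exacts [⟨by rw [zb_zero, sm_zero, S.pi_one], by rw [zb_zero]; exact one_mem _,
      by rw [zb_zero]; exact one_mem _⟩, ⟨by rw [zb_one, sm_one], by rwa [zb_one], by rwa [zb_one]⟩]
  obtain ⟨qa, qa', qa''⟩ := hz' _ a (hwQ 0) (hw 0)
  obtain ⟨qb, qb', qb''⟩ := hz' _ b (hwQ 1) (hw 1)
  obtain ⟨qc, qc', qc''⟩ := hz' _ c (hwQ 2) (hw 2)
  obtain ⟨qd, qd', qd''⟩ := hz' _ d (hwQ 3) (hw 3)
  have hpi : π y = π (zb (w 0) a * zb (w 1) b * zb (w 2) c * zb (w 3) d) := by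
    rw [e, S.pi_mul _ (mul_mem (mul_mem qa' qb') qc') _ qd', S.pi_mul _ (mul_mem qa' qb') _ qc',
      S.pi_mul _ qa' _ qb', qa, qb, qc, qd, hwπ, hwπ, hwπ, hwπ]
    rfl
  rcases S.eq_of_pi hyQ (mul_mem (mul_mem (mul_mem qa' qb') qc') qd') hpi with e' | e' <;> rw [e']
  · exact mul_mem (mul_mem (mul_mem qa'' qb'') qc'') qd''
  · exact mul_mem (mul_mem (mul_mem (mul_mem qa'' qb'') qc'') qd'') hzP

/-- The two centralisers commute. -/
theorem cen_commute (S : Su z Q π ρ) (T : Two s t) {p m : G} (hp : p ∈ Cen Q π s) (hm : m ∈ Cen Q π t) :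
    p * m = m * p := by
  have key : ∀ p ∈ Cen Q π s, p * m * p⁻¹ * m⁻¹ = 1 ∨ p * m * p⁻¹ * m⁻¹ = z := by
    intro p hp
    have hpz := cen_z S hp
    have hmz := cen_z S hm
    set c := p * m * p⁻¹ * m⁻¹ with hc
    have hpm : p * m * p⁻¹ * z = z * (p * m * p⁻¹) :=
      S.comm_mul (S.comm_mul hpz hmz) (S.comm_inv hpz)
    have hcz : c * z = z * c := S.comm_mul hpm (S.comm_inv hmz)
    have hcomm : ∀ v, ρ p (ρ m v) = ρ m (ρ p v) := by
      intro v
      obtain ⟨τ, hτ, -⟩ := cen_perm S T hm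
      obtain ⟨σ, hσ, -⟩ := cen_perm S T.symm hp
      exact congrFun (T.ext (f := fun v => ρ p (ρ m v)) (g := fun v => ρ m (ρ p v))
        (fun u v => by simp only [S.rho_add hmz, S.rho_add hpz])
        (fun u v => by simp only [S.rho_add hmz, S.rho_add hpz])
        (fun i => by simp only [hσ, cen_fix S T hm])
        (fun i => by simp only [hτ, cen_fix S T.symm hp])) v
    have hcQ : c ∈ Q := (S.ker c hcz).1 fun v => by
      rw [hc, S.rho_mul hpm (S.comm_inv hmz), S.rho_mul (S.comm_mul hpz hmz) (S.comm_inv hpz),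
        S.rho_mul hpz hmz, hcomm, ← S.rho_mul hpz (S.comm_inv hpz), mul_inv_cancel, S.rho_one,
        ← S.rho_mul hmz (S.comm_inv hmz), mul_inv_cancel, S.rho_one]
    -- `c` centralises both parts
    have hnorm : ∀ {g : G} {a b : Fin 5 → V}, Two a b → g ∈ Cen Q π a → ∀ w ∈ U Q π b,
        g * w * g⁻¹ ∈ U Q π b := by
      intro g a b T' hg w hw
      obtain ⟨hwQ, hwP⟩ := (mem_U S).1 hw
      have hgz := cen_z S hg
      refine (mem_U S).2 ⟨S.conj_mem hgz hwQ, fun i => ?_⟩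
      rw [S.conj g hgz w hwQ, ← cen_fix S T'.symm hg i, (S.om g hgz).bil_eq]
      exact hwP i
    have hct : c ∈ Cen Q π t := by
      refine mem_centralizer_iff.2 fun w hw => (mul_inv_eq_iff_eq_mul.1 ?_).symm
      have h1 : m⁻¹ * w * m = w := by
        rw [mul_assoc, mem_centralizer_iff.1 hm w hw, inv_mul_cancel_left]
      have h2 := mem_centralizer_iff.1 hm _ (hnorm T (inv_mem hp) w hw)
      rw [inv_inv] at h2
      calc c * w * c⁻¹ = p * (m * (p⁻¹ * (m⁻¹ * w * m) * p) * m⁻¹) * p⁻¹ := by rw [hc]; group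
        _ = p * (p⁻¹ * w * p) * p⁻¹ := by rw [h1, ← h2, mul_inv_cancel_right]
        _ = w := by group
    have hcs : c ∈ Cen Q π s := by
      refine mem_centralizer_iff.2 fun w hw => (mul_inv_eq_iff_eq_mul.1 ?_).symm
      have h3 : ∀ q ∈ U Q π s, p⁻¹ * q * p = q ∧ p * q * p⁻¹ = q := fun q hq => by
        have h := mem_centralizer_iff.1 hp q hq
        exact ⟨by rw [mul_assoc, h, inv_mul_cancel_left], by rw [← h, mul_inv_cancel_right]⟩
      have h4 := hnorm T.symm (inv_mem hm) w hw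
      rw [inv_inv] at h4
      calc c * w * c⁻¹ = p * (m * (p⁻¹ * (m⁻¹ * w * m) * p) * m⁻¹) * p⁻¹ := by rw [hc]; group
        _ = p * w * p⁻¹ := by rw [(h3 _ h4).1]; group
        _ = w := (h3 w hw).2
    have h1 := ((mem_U S).1 ((cen_inf_Q S T).1 ⟨hct, hcQ⟩)).2
    have h2 := ((mem_U S).1 ((cen_inf_Q S T.symm).1 ⟨hcs, hcQ⟩)).2
    exact (S.pi_eq c hcQ).1 (T.total _ h1 h2)
  have hodd : ∀ q ∈ {x | x ∈ Cen Q π s ∧ Odd (orderOf x)}, q * m * q⁻¹ * m⁻¹ = 1 := by
    rintro q ⟨hq, ho⟩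
    rcases key q hq with e | e
    · exact e
    · exfalso
      have h1 : q * m * q⁻¹ = z * m := by rw [← e]; group
      have hrec : ∀ n : ℕ, q ^ n * m * (q ^ n)⁻¹ = z ^ n * m := by
        intro n
        induction n with
        | zero => simp
        | succ n ih =>
          have hqz : q * z ^ n = z ^ n * q := (Commute.pow_right (cen_z S hq) n).eq
          calc q ^ (n + 1) * m * (q ^ (n + 1))⁻¹ = q * (q ^ n * m * (q ^ n)⁻¹) * q⁻¹ := by
                rw [pow_succ']; group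
            _ = z ^ n * (q * m * q⁻¹) := by rw [ih, ← mul_assoc q, hqz]; group
            _ = z ^ (n + 1) * m := by rw [h1, pow_succ]; group
      have h5 := hrec (orderOf q)
      rw [pow_orderOf_eq_one, inv_one, mul_one, one_mul] at h5
      obtain ⟨k, hk⟩ := ho
      rw [hk, pow_succ, pow_mul, pow_two, S.loc.sq, one_pow, one_mul] at h5
      exact S.loc.ne_one (right_eq_mul.1 h5)
  rw [← cen_gen S T.symm] at hp
  have hpm : p ∈ centralizer ({m} : Set G) := (closure_le _).2 (fun q hq =>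
    mem_centralizer_singleton_iff.2 (by
      have h := hodd q hq
      rwa [mul_inv_eq_one, mul_inv_eq_iff_eq_mul] at h)) hp
  exact mem_centralizer_singleton_iff.1 hpm

end Cfsg.Agent.CoFive
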