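import Cfsg.Agent.Lib.HJUniq.Main
import Cfsg.Agent.Lib.HJ.Invols
import Cfsg.Agent.Lib.HJ.Small
import Cfsg.Agent.S1620

/-!
A group of Hall–Janko type is generated by the centralisers of two commuting conjugates of the central
involution.
-/

set_option autoImplicit false

namespace Cfsg.Agent.CoFive

open Cfsg.Agent.HJ

variable {G : Type*} [Group G] [Finite G] {z : G} {Q : Subgroup G}
  {φ : ↥(Subgroup.centralizer ({z} : Set G)) →* A5}

/-- Two neighbours of a conjugate of the central involution are conjugate under its centraliser. -/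
theorem nbr_trans (S : Setup z Q φ) {g a b : G} (ha : ∃ k, k * z * k⁻¹ = a) (hb : ∃ k, k * z * k⁻¹ = b)
    (hac : a * (g * z * g⁻¹) = g * z * g⁻¹ * a) (hbc : b * (g * z * g⁻¹) = g * z * g⁻¹ * b)
    (hane : a ≠ g * z * g⁻¹) (hbne : b ≠ g * z * g⁻¹) :
    ∃ h, h * (g * z * g⁻¹) = g * z * g⁻¹ * h ∧ h * a * h⁻¹ = b := by
  have pull : ∀ {a : G}, (∃ k, k * z * k⁻¹ = a) → a * (g * z * g⁻¹) = g * z * g⁻¹ * a →
      a ≠ g * z * g⁻¹ → Nci z Q (g⁻¹ * a * g) := by
    rintro a ⟨k, rfl⟩ hc hne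
    have hz : g⁻¹ * (k * z * k⁻¹) * g * z = z * (g⁻¹ * (k * z * k⁻¹) * g) := by
      calc g⁻¹ * (k * z * k⁻¹) * g * z = g⁻¹ * (k * z * k⁻¹ * (g * z * g⁻¹)) * g := by group
        _ = g⁻¹ * (g * z * g⁻¹ * (k * z * k⁻¹)) * g := by rw [hc]
        _ = _ := by group
    refine ⟨S.conj_z_inQ hz ⟨g⁻¹ * k, by group⟩, ?_, ?_, fun e => hne ?_⟩
    · have e := conj_sq (g⁻¹) (conj_sq k S.zz)
      rwa [inv_inv] at e
    · have e := conj_ne_one (g⁻¹) (conj_ne_one k S.zne)
      rwa [inv_inv] at e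
    · calc k * z * k⁻¹ = g * (g⁻¹ * (k * z * k⁻¹) * g) * g⁻¹ := by group
        _ = g * z * g⁻¹ := by rw [e]
  obtain ⟨h, hh, e⟩ := S.nci_trans (pull ha hac hane) (pull hb hbc hbne)
  refine ⟨g * h * g⁻¹, ?_, ?_⟩
  · calc g * h * g⁻¹ * (g * z * g⁻¹) = g * (h * z) * g⁻¹ := by group
      _ = g * (z * h) * g⁻¹ := by rw [hh]
      _ = _ := by group
  · calc g * h * g⁻¹ * a * (g * h * g⁻¹)⁻¹ = g * (h * (g⁻¹ * a * g) * h⁻¹) * g⁻¹ := by group
      _ = b := by rw [e]; group

/-- The centralisers of `z` and of a commuting conjugate generate. -/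
theorem gen_top (S : Setup z Q φ) {s : G} (hs : Nci z Q s) {X : Subgroup G}
    (hz : Subgroup.centralizer ({z} : Set G) ≤ X) (hsX : Subgroup.centralizer ({s} : Set G) ≤ X) :
    X = ⊤ := by
  classical
  haveI := Fintype.ofFinite G
  have hcs : s * z = z * s := S.Q_comm_z hs.1
  -- the third point of the line
  have hs' := S.nci_mul_z hs
  obtain ⟨h, hh, hhs⟩ := S.nci_trans hs hs'
  have hs'X : Subgroup.centralizer ({s * z} : Set G) ≤ X := by
    intro w hw
    have h1 : h⁻¹ * w * h ∈ Subgroup.centralizer ({s} : Set G) := mem_cent.2 (by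
      have hw' := mem_cent.1 hw
      rw [← hhs] at hw'
      calc h⁻¹ * w * h * s = h⁻¹ * (w * (h * s * h⁻¹)) * h := by group
        _ = h⁻¹ * (h * s * h⁻¹ * w) * h := by rw [hw']
        _ = _ := by group)
    have h2 := X.mul_mem (X.mul_mem (hz (mem_cent.2 hh)) (hsX h1)) (X.inv_mem (hz (mem_cent.2 hh)))
    rwa [show h * (h⁻¹ * w * h) * h⁻¹ = w by group] at h2
  obtain ⟨k, hk⟩ := S.nci_conj_z hs'
  have hsA : ∃ g ∈ X, g * z * g⁻¹ = s := by
    obtain ⟨w, hw, e⟩ := nbr_trans S (g := k) ⟨1, by simp⟩ (S.nci_conj_z hs) (a := z) (b := s)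
      (by rw [hk]; exact (S.Q_comm_z hs'.1).symm)
      (by rw [hk, ← mul_assoc, mul_assoc s z s, ← hcs, ← mul_assoc]) (by rw [hk]; exact fun e => hs'.2.2.2 e.symm)
      (by rw [hk]; exact S.ne_mul_z s)
    exact ⟨w, hs'X (mem_cent.2 (by rw [← hk]; exact hw)), e⟩
  obtain ⟨n, hn, hns⟩ := hsA
  have hnci : ∀ u, Nci z Q u → ∃ g ∈ X, g * z * g⁻¹ = u := by
    intro u hu
    obtain ⟨w, hw, e⟩ := S.nci_trans hs hu
    exact ⟨w * n, X.mul_mem (hz (mem_cent.2 hw)) hn, by rw [← conj_conj, hns, e]⟩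
  -- a second neighbour
  obtain ⟨i, hi⟩ := exists_ne (pt φ s)
  obtain ⟨s₁, hs₁, hs₁i⟩ := S.pt_surj i
  have hnc : s * s₁ ≠ s₁ * s := S.nc_of_pt_ne hs hs₁ (by rw [hs₁i]; exact hi.symm)
  let A : Finset G := Finset.univ.filter fun y => ∃ g ∈ X, g * z * g⁻¹ = y
  let N : Finset G := Finset.univ.filter fun y => Nci z Q y
  let f : G → Finset G := fun g => (N.image fun u => g * u * g⁻¹).filter fun y => y * z ≠ z * y
  have hN : N.card = 10 := by
    rw [← S.nci_core.1, Nat.card_eq_fintype_card, Fintype.card_subtype]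
  have hmem : ∀ {g u : G}, g ∈ X → Nci z Q u → ∃ m ∈ X, m * z * m⁻¹ = g * u * g⁻¹ := by
    intro g u hg hu
    obtain ⟨m, hm, rfl⟩ := hnci u hu
    exact ⟨g * m, X.mul_mem hg hm, by rw [← conj_conj]⟩
  have hf : ∀ g, Nci z Q (g * z * g⁻¹) → 8 ≤ (f g).card := by
    intro g hg
    have hsplit := Finset.card_filter_add_card_filter_not
      (s := N.image fun u => g * u * g⁻¹) (fun y => y * z ≠ z * y)
    rw [Finset.card_image_of_injective _ fun u v e => conj_inj' e, hN] at hsplit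
    have h2 : ((N.image fun u => g * u * g⁻¹).filter fun y => ¬ y * z ≠ z * y) ⊆
        ({z, g * z * g⁻¹ * z} : Finset G) := by
      intro y hy
      simp only [Finset.mem_filter, Finset.mem_image, N, Finset.mem_univ, true_and, not_not] at hy
      obtain ⟨⟨u, hu, rfl⟩, hyz⟩ := hy
      simp only [Finset.mem_insert, Finset.mem_singleton]
      by_cases hyz' : g * u * g⁻¹ = z
      · exact Or.inl hyz'
      obtain ⟨m, hm⟩ := S.nci_conj_z hu
      have hy' : Nci z Q (g * u * g⁻¹) := ⟨S.conj_z_inQ hyz ⟨g * m, by rw [← conj_conj, hm]⟩,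
        conj_sq g hu.2.1, conj_ne_one g hu.2.2.1, hyz'⟩
      have hc := conj_comm g (S.Q_comm_z hu.1)
      rcases S.nci_core.2 _ _ hg hy' hc with e | e
      · exact absurd (conj_inj' e) hu.2.2.2
      · exact Or.inr e
    have := (Finset.card_le_card h2).trans Finset.card_le_two
    change 8 ≤ ((N.image fun u => g * u * g⁻¹).filter fun y => y * z ≠ z * y).card
    omega
  obtain ⟨n₁, hn₁, hn₁s⟩ := hnci s₁ hs₁
  have hsub : N ∪ f n ∪ f n₁ ⊆ A := by
    intro y hy
    simp only [Finset.mem_union, N, f, Finset.mem_filter, Finset.mem_image, Finset.mem_univ,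
      true_and] at hy
    simp only [A, Finset.mem_filter, Finset.mem_univ, true_and]
    rcases hy with (hy | ⟨⟨u, hu, rfl⟩, -⟩) | ⟨⟨u, hu, rfl⟩, -⟩
    exacts [hnci y hy, hmem hn hu, hmem hn₁ hu]
  have hdisj : ∀ g, Disjoint N (f g) := fun g => Finset.disjoint_left.2 fun y hy hy' => by
    simp only [N, f, Finset.mem_filter, Finset.mem_univ, true_and] at hy hy'
    exact hy'.2 (S.Q_comm_z hy.1)
  have hdisj' : Disjoint (f n) (f n₁) := Finset.disjoint_left.2 fun y hy hy' => by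
    simp only [N, f, Finset.mem_filter, Finset.mem_image, Finset.mem_univ, true_and] at hy hy'
    obtain ⟨⟨u, hu, rfl⟩, hyz⟩ := hy
    obtain ⟨⟨v, hv, e⟩, -⟩ := hy'
    obtain ⟨m, -, hm⟩ := hmem hn hu
    have hsy : (m⁻¹ * s * m) ∈ Q ∧ (m⁻¹ * s₁ * m) ∈ Q := by
      constructor
      · refine S.conj_z_inQ ?_ ⟨m⁻¹ * n, by rw [← hns]; group⟩
        have hc := conj_comm m⁻¹ (conj_comm n (S.Q_comm_z hu.1))
        rw [inv_inv, hns, ← hm, show m⁻¹ * (m * z * m⁻¹) * m = z by group] at hc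
        exact hc.symm
      · refine S.conj_z_inQ ?_ ⟨m⁻¹ * n₁, by rw [← hn₁s]; group⟩
        have hc := conj_comm m⁻¹ (conj_comm n₁ (S.Q_comm_z hv.1))
        rw [inv_inv, hn₁s, e, ← hm, show m⁻¹ * (m * z * m⁻¹) * m = z by group] at hc
        exact hc.symm
    have h1 : s * s₁ = s₁ * s * z := S.nc_eq hs.1 hs₁.1 hnc
    rcases S.comm _ hsy.1 _ hsy.2 with c' | c'
    · refine hnc ?_
      have c'' := congrArg (fun t => m * t * m⁻¹) c'
      simp only [mul_assoc, mul_inv_cancel_left] at c''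
      simpa [mul_assoc] using c''
    · have c'' := congrArg (fun t => m * t * m⁻¹) c'
      have h2 : s * s₁ = s₁ * s * (m * z * m⁻¹) := by
        calc s * s₁ = m * (m⁻¹ * s * m * (m⁻¹ * s₁ * m)) * m⁻¹ := by group
          _ = m * (m⁻¹ * s₁ * m * (m⁻¹ * s * m) * z) * m⁻¹ := c''
          _ = _ := by group
      refine hyz ?_
      rw [← hm, mul_left_cancel (h2.symm.trans h1)]
  have h26 : 26 ≤ A.card := by
    refine le_trans ?_ (Finset.card_le_card hsub)
    rw [Finset.card_union_of_disjoint (Finset.disjoint_union_left.2 ⟨hdisj n₁, hdisj'⟩),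
      Finset.card_union_of_disjoint (hdisj n)]
    have := hf n (by rw [hns]; exact hs)
    have := hf n₁ (by rw [hn₁s]; exact hs₁)
    omega
  -- orbit and index
  have horb := card_conj_orbit X z
  rw [inf_eq_right.2 hz, S.card_H, show Nat.card {y : G // ∃ g ∈ X, g * z * g⁻¹ = y} = A.card by
    rw [Nat.card_eq_fintype_card, Fintype.card_subtype]] at horb
  have hidx := X.card_mul_index
  rw [← horb, S.card_G] at hidx
  have h315 : A.card * X.index = 315 := by
    have : 1920 * (A.card * X.index) = 1920 * 315 := by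
      rw [show 1920 * (A.card * X.index) = A.card * 1920 * X.index by ring, hidx]
    exact Nat.eq_of_mul_eq_mul_left (by norm_num) this
  have h12 : X.index ≤ 12 := by
    by_contra hlt
    have := Nat.mul_le_mul h26 (show 13 ≤ X.index by omega)
    omega
  have h9 : X.index ≤ 9 := by
    have hd : X.index ∣ 315 := ⟨A.card, by rw [← h315]; ring⟩
    interval_cases hX : X.index <;> omega
  by_contra hne
  obtain ⟨e⟩ := HJUniq.setup_iso S
  haveI : IsSimpleGroup Cfsg.Spor.J2 := S1620.result.1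
  haveI : Nontrivial G := ⟨⟨z, 1, S.zne⟩⟩
  haveI : IsSimpleGroup G := IsSimpleGroup.isSimpleGroup_of_surjective e.symm.toMonoidHom e.symm.surjective
  let p : G →* Equiv.Perm (G ⧸ X) := MulAction.toPermHom G (G ⧸ X)
  have hker : p.ker = ⊥ := by
    refine (p.normal_ker.eq_bot_or_eq_top).resolve_right fun htop => hne ?_
    refine eq_top_iff.2 fun g _ => ?_
    have hg : p g = 1 := MonoidHom.mem_ker.1 (htop ▸ Subgroup.mem_top g)
    have h1 : g • ((1 : G) : G ⧸ X) = ((1 : G) : G ⧸ X) := by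
      have := Equiv.congr_fun hg ((1 : G) : G ⧸ X)
      exact this
    rw [MulAction.Quotient.smul_coe, smul_eq_mul, mul_one, QuotientGroup.eq, mul_one] at h1
    exact inv_mem_iff.1 h1
  have hdvd := Subgroup.card_dvd_of_injective p ((MonoidHom.ker_eq_bot_iff p).1 hker)
  rw [S.card_G, Nat.card_perm] at hdvd
  have hX : X.index = Nat.card (G ⧸ X) := rfl
  have hle := Nat.factorial_le (hX ▸ h9 : Nat.card (G ⧸ X) ≤ 9)
  have := Nat.le_of_dvd (Nat.factorial_pos _) hdvd
  have e9 : (9 : ℕ).factorial = 362880 := by decide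
  omega

end Cfsg.Agent.CoFive
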