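import Cfsg.Agent.Lib.CoFive.Cent

/-!
The centraliser of the element of order five in the centraliser of the central involution: a direct product
of its cyclic group with an extension of the fixed extraspecial part by `A₅`.
-/

set_option autoImplicit false
set_option linter.style.haveILetI false
set_option linter.unusedSectionVars false
set_option maxRecDepth 20000
set_option synthInstance.maxSize 4000
set_option synthInstance.maxHeartbeats 400000

namespace Cfsg.Agent.CoFive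

open Cfsg.Agent.CoT Equiv Subgroup

local notation "F" => ZMod 2

variable {G : Type*} [Group G] [Finite G] {z : G} {Q : Subgroup G} {π : G → V} {ρ : G → V → V} {β : G}

theorem four_pow (S : Su z Q π ρ) {x : G} (hx : x ∈ Q) : x ^ 4 = 1 := by
  have h : x * x = 1 ∨ x * x = z := by
    rw [S.sq x hx]
    rcases F_cases (q (π x)) with e | e <;> rw [e]
    exacts [Or.inl (zb_zero _), Or.inr (zb_one _)]
  rw [show (4 : ℕ) = 2 * 2 from rfl, pow_mul, pow_two x]
  rcases h with e | e <;> rw [e, pow_two]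
  exacts [one_mul 1, S.loc.sq]

theorem eq_one_of_pow {x : G} {m n : ℕ} (hm : x ^ m = 1) (hn : x ^ n = 1) (h : Nat.Coprime m n) :
    x = 1 :=
  orderOf_eq_one_iff.1 (Nat.eq_one_of_dvd_coprimes h (orderOf_dvd_of_pow_eq_one hm)
    (orderOf_dvd_of_pow_eq_one hn))

namespace Fv

variable (Z : Fv z Q π ρ β)
include Z

theorem beta_pow_five : β ^ 5 = 1 := by rw [← Z.five, pow_orderOf_eq_one]

theorem beta_z (n : ℕ) : β ^ n * z = z * β ^ n := (Commute.pow_left Z.hz n).eq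

theorem beta_sv (i : Fin 5) : ρ β (sv i) = sv i := (Z.fix _).2 (two_std.perp_self i)

theorem mem_fix {x : G} (hx : x ∈ Q) : β * x = x * β ↔ x ∈ U Q π tv := by
  rw [fix_iff_comm Z.S Z.hz (by rw [Z.five]; decide) hx, Z.fix, mem_U Z.S]
  exact ⟨fun h => ⟨hx, h⟩, fun h => h.2⟩

theorem beta_mem : β ∈ Cen Q π tv :=
  mem_centralizer_iff.2 fun _ hu => ((Z.mem_fix ((mem_U Z.S).1 hu).1).2 hu).symm

theorem U_le_P : U Q π tv ≤ Cen Q π sv := fun _ hx => ((cen_inf_Q Z.S two_std.symm).2 hx).1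

theorem beta_P {p : G} (hp : p ∈ Cen Q π sv) : p * β = β * p := cen_commute Z.S two_std hp Z.beta_mem

theorem P_le_z {p : G} (hp : p ∈ Cen Q π sv) : p * z = z * p := cen_z Z.S hp

/-- The five-cycle of `β`. -/
theorem exists_tau : ∃ τ : Perm (Fin 5), τ ^ 5 = 1 ∧ (∀ a, τ a ≠ a) ∧
    ∀ (n : ℕ) (i : Fin 5), ρ (β ^ n) (tv i) = tv ((τ ^ n) i) := by
  obtain ⟨τ, hτ, -⟩ := cen_perm Z.S two_std Z.beta_mem
  have hpow : ∀ (n : ℕ) (i : Fin 5), ρ (β ^ n) (tv i) = tv ((τ ^ n) i) := by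
    intro n
    induction n with
    | zero => intro i; rw [pow_zero, Z.S.rho_one]; rfl
    | succ n ih =>
      intro i
      rw [pow_succ, Z.S.rho_mul (Z.beta_z n) Z.hz, hτ, ih, pow_succ]
      rfl
  refine ⟨τ, Equiv.ext fun i => two_std.right.inj ?_, fun a e => ?_, hpow⟩
  · rw [← hpow, Z.beta_pow_five, Z.S.rho_one]; rfl
  · have h : ρ β (tv a) = tv a := by rw [hτ, e]
    obtain ⟨b, hb⟩ := exists_ne a
    have h1 := (Z.fix _).1 h b
    rw [two_std.right.bij a b hb.symm] at h1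
    exact one_ne_zero h1

/-- A power of `β` inside the complement is trivial. -/
theorem beta_disj {n : ℕ} (h : β ^ n ∈ Cen Q π sv) : β ^ n = 1 := by
  obtain ⟨τ, h5, hfix, hpow⟩ := Z.exists_tau
  have hn : τ ^ n = 1 := Equiv.ext fun i => two_std.right.inj (by
    rw [← hpow, cen_fix Z.S two_std.symm h]; rfl)
  have ho : orderOf τ = 5 := by
    haveI : Fact (Nat.Prime 5) := ⟨by norm_num⟩
    exact orderOf_eq_prime h5 fun e => hfix 0 (by rw [e]; rfl)
  have hd := orderOf_dvd_of_pow_eq_one hn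
  rw [ho, ← Z.five] at hd
  exact orderOf_dvd_iff_pow_eq_one.1 hd

/-- The permutations of an element whose image commutes with that of `β`. -/
theorem perms {c : G} (hc : c * z = z * c) (h : c * β = β * c) :
    ∃ σ τ' : Perm (Fin 5), (∀ i, ρ c (sv i) = sv (σ i)) ∧ (∀ i, ρ c (tv i) = tv (τ' i)) ∧
      Perm.sign σ = Perm.sign τ' ∧ ∀ i, ρ β (tv (τ' i)) = ρ c (ρ β (tv i)) := by
  have hcomm : ∀ v, ρ β (ρ c v) = ρ c (ρ β v) := fun v => by
    rw [← Z.S.rho_mul Z.hz hc, ← Z.S.rho_mul hc Z.hz, h]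
  have hom := Z.S.om c hc
  obtain ⟨σ, hσ⟩ := two_std.left.exists_perm hom.q_eq hom.bil_eq fun i =>
    two_std.perp_iff.1 ((Z.fix _).1 (by rw [hcomm, Z.beta_sv]))
  obtain ⟨τ', hτ'⟩ := two_std.right.exists_perm hom.q_eq hom.bil_eq fun i =>
    two_std.symm.perp_iff.1 fun j => by
      rw [show sv j = ρ c (sv (σ.symm j)) by rw [hσ, Equiv.apply_symm_apply], hom.bil_eq, bil_comm,
        two_std.orth]
  exact ⟨σ, τ', hσ, hτ', two_std.sign_eq hom hσ hτ', fun i => by rw [← hτ', hcomm]⟩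

/-- The centraliser of `β` in the centraliser of `z`. -/
theorem factor {c : G} (hc : c * z = z * c) (h : c * β = β * c) :
    ∃ p ∈ Cen Q π sv, ∃ n : ℕ, c = p * β ^ n := by
  obtain ⟨σ, τ', hσ, hτ', hsign, hcomm⟩ := Z.perms hc h
  obtain ⟨τ, h5, hfix, hpow⟩ := Z.exists_tau
  have hb : ∀ i, ρ β (tv i) = tv (τ i) := fun i => by
    have := hpow 1 i
    rwa [pow_one, pow_one] at this
  have hττ : ∀ i, τ (τ' i) = τ' (τ i) := fun i => two_std.right.inj (by
    rw [← hb, hcomm, hb, hτ'])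
  obtain ⟨n, hn⟩ := (five_cycle τ h5 hfix).1 0 (τ' 0)
  have hτn : τ' = τ ^ (n : ℕ) := Equiv.ext fun b => by
    obtain ⟨m, rfl⟩ := (five_cycle τ h5 hfix).1 0 b
    have hm : ∀ k : ℕ, τ' ((τ ^ k) 0) = (τ ^ k) (τ' 0) := by
      intro k
      induction k with
      | zero => rfl
      | succ k ih => rw [pow_succ', Perm.mul_apply, ← hττ, ih, Perm.mul_apply]
    rw [hm, ← hn, ← Perm.mul_apply, ← Perm.mul_apply, ← pow_add, ← pow_add, add_comm]
  have hsτ : Perm.sign (τ ^ (n : ℕ)) = 1 := by rw [map_pow, five_odd τ h5, one_pow]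
  have hσ1 : Perm.sign σ = 1 := by rw [hsign, hτn, hsτ]
  obtain ⟨ψ, hψ, -⟩ := exists_cen_hom Z.S two_std.symm
  obtain ⟨p, hp⟩ := cen_hom_surj Z.S two_std.symm hψ ⟨σ, Perm.mem_alternatingGroup.2 hσ1⟩
  have hpz := Z.P_le_z p.2
  have hbz := Z.beta_z (n : ℕ)
  set y := (p : G)⁻¹ * c * (β ^ (n : ℕ))⁻¹ with hy
  have hy1 : (p : G)⁻¹ * c * z = z * ((p : G)⁻¹ * c) := Z.S.comm_mul (Z.S.comm_inv hpz) hc
  have hyz : y * z = z * y := Z.S.comm_mul hy1 (Z.S.comm_inv hbz)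
  have hρc : ∀ v, ρ c v = ρ (p : G) (ρ (β ^ (n : ℕ)) v) := fun v => congrFun (two_std.ext
    (f := ρ c) (g := fun v => ρ (p : G) (ρ (β ^ (n : ℕ)) v)) (Z.S.rho_add hc)
    (fun u w => by simp only [Z.S.rho_add hbz, Z.S.rho_add hpz])
    (fun i => by
      have hbs : ρ (β ^ (n : ℕ)) (sv i) = sv i := by
        rw [rho_pow Z.S Z.hz, Function.iterate_fixed (Z.beta_sv i)]
      simp only [hbs, hσ, hψ, hp])
    (fun i => by simp only [hτ', hpow, cen_fix Z.S two_std.symm p.2, hτn])) v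
  have hyQ : y ∈ Q := (Z.S.ker y hyz).1 fun v => by
    rw [hy, Z.S.rho_mul hy1 (Z.S.comm_inv hbz), Z.S.rho_mul (Z.S.comm_inv hpz) hc, hρc,
      ← Z.S.rho_mul hbz (Z.S.comm_inv hbz), mul_inv_cancel, Z.S.rho_one,
      ← Z.S.rho_mul (Z.S.comm_inv hpz) hpz, inv_mul_cancel, Z.S.rho_one]
  have hyb : β * y = y * β := by
    have h1 : Commute β (p : G) := (Z.beta_P p.2).symm
    have h2 : Commute β c := h.symm
    exact ((h1.inv_right.mul_right h2).mul_right (Commute.self_pow β n).inv_right).eq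
  refine ⟨p * y, mul_mem p.2 (Z.U_le_P ((Z.mem_fix hyQ).1 hyb)), n, ?_⟩
  rw [hy]; group

/-- An element whose order divides four. -/
theorem four_mem {c : G} (hc : c * z = z * c) (h : c * β = β * c) (h4 : c ^ 4 = 1) :
    c ∈ Cen Q π sv := by
  obtain ⟨p, hp, n, rfl⟩ := Z.factor hc h
  rw [Commute.mul_pow (Commute.pow_right (Z.beta_P hp) n), ← pow_mul] at h4
  have h1 : β ^ (n * 4) = 1 := Z.beta_disj (by
    rw [← inv_mul_cancel_left (p ^ 4) (β ^ (n * 4)), h4, mul_one]; exact inv_mem (pow_mem hp _))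
  have h2 : β ^ n = 1 := eq_one_of_pow (m := 4) (n := 5) (by rw [← pow_mul]; exact h1)
    (by rw [← pow_mul, mul_comm, pow_mul, Z.beta_pow_five, one_pow]) (by norm_num)
  rw [h2, mul_one]; exact hp

/-- A 5-element fixing the first singular vector. -/
theorem five_mem {c : G} (hc : c * z = z * c) (h : c * β = β * c) (hfx : ρ c (sv 0) = sv 0) {k : ℕ}
    (h5 : c ^ 5 ^ k = 1) : c ∈ zpowers β := by
  obtain ⟨p, hp, n, rfl⟩ := Z.factor hc h
  have hpz := Z.P_le_z hp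
  rw [Commute.mul_pow (Commute.pow_right (Z.beta_P hp) n), ← pow_mul] at h5
  have h1 : β ^ (n * 5 ^ k) = 1 := Z.beta_disj (by
    rw [← inv_mul_cancel_left (p ^ 5 ^ k) (β ^ (n * 5 ^ k)), h5, mul_one]; exact inv_mem (pow_mem hp _))
  rw [h1, mul_one] at h5
  obtain ⟨ψ, hψ, hker⟩ := exists_cen_hom Z.S two_std.symm
  have hψ0 : (ψ ⟨p, hp⟩ : Perm (Fin 5)) 0 = 0 := two_std.left.inj (by
    have hbs : ρ (β ^ n) (sv 0) = sv 0 := by
      rw [rho_pow Z.S Z.hz, Function.iterate_fixed (Z.beta_sv 0)]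
    rw [Z.S.rho_mul hpz (Z.beta_z n), hbs] at hfx
    rw [← hψ]; exact hfx)
  have hpQ : p ∈ Q := (hker ⟨p, hp⟩).1 (eq_one_of_pow (m := 12) (n := 5 ^ k)
    (Subtype.ext (by rw [Subgroup.coe_pow, fix_twelve _ hψ0]; rfl))
    (by rw [← map_pow, show (⟨p, hp⟩ : Cen Q π sv) ^ 5 ^ k = 1 from Subtype.ext (by simpa using h5),
      map_one]) (Nat.Coprime.pow_right k (by norm_num)))
  rw [eq_one_of_pow (four_pow Z.S hpQ) h5 (Nat.Coprime.pow_right k (by norm_num)), one_mul]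
  exact Subgroup.npow_mem_zpowers β n

/-- Only the fixed part of the centraliser commutes with the whole complement. -/
theorem cent_P {x : G} (hx : ∀ p ∈ Cen Q π sv, x * p = p * x) : x ∈ Cen Q π tv :=
  mem_centralizer_iff.2 fun u hu => (hx u (Z.U_le_P hu)).symm

end Fv

end Cfsg.Agent.CoFive
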