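import Cfsg.Agent.Lib.CoFive.Swap

/-!
The common centraliser of the two conjugate complements is isomorphic to `A₅`.
-/

set_option autoImplicit false
set_option linter.style.haveILetI false
set_option linter.unusedSectionVars false
set_option maxRecDepth 20000
set_option synthInstance.maxSize 4000
set_option synthInstance.maxHeartbeats 400000

namespace Cfsg.Agent.CoFive

open Cfsg.Agent.CoT Equiv Subgroup

local notation "F" => ZMod 2

/-- A frame at the first singular vector and the exchanging element. -/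
structure Cfg {G : Type*} [Group G] (z : G) (Q : Subgroup G) (π : G → V) (ρ : G → V → V)
    (β s g n : G) : Prop where
  Z : Fv z Q π ρ β
  X : Fr z Q π ρ s g
  se : π s = sv 0
  nb : n * β = β * n
  nz : n * z * n⁻¹ = s
  ns : n * s * n⁻¹ = z

theorem perp_counts : Nat.card {v : V // Perp sv v} = 16 ∧
    Nat.card {v : V // bil v e0 = 0 ∧ bil v a0 = 0 ∧ bil v v0 = 0} = 32 ∧
    Nat.card {v : V // q v = 0 ∧ bil v e0 = 1 ∧ bil v a0 = 0 ∧ bil v v0 = 0} ≤ 16 := by
  rw [Nat.card_eq_fintype_card, Nat.card_eq_fintype_card, Nat.card_eq_fintype_card]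
  decide +kernel

theorem sv_facts : Perp tv a0 ∧ Perp tv v0 ∧ bil a0 e0 = 0 ∧ bil v0 e0 = 0 ∧ sv 2 = e0 + f0 + a0 ∧
    sv 3 = e0 + f0 + v0 ∧ sv 0 = e0 ∧ sv 1 = f0 ∧ sv 4 = e0 + f0 + (a0 + v0) ∧ q f0 = 0 ∧
    bil f0 e0 = 1 ∧ bil f0 a0 = 0 ∧ bil f0 v0 = 0 := by
  decide +kernel

variable {G : Type*} [Group G] [Finite G] {z : G} {Q : Subgroup G} {π : G → V} {ρ : G → V → V}

/-- Each vector has two lifts. -/
theorem card_lift (S : Su z Q π ρ) (p : V → Prop) :
    Nat.card {x : G // x ∈ Q ∧ p (π x)} = 2 * Nat.card {v : V // p v} := by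
  classical
  choose l hl hlp using S.pi_surj
  have hmem : ∀ (v : V) (c : F), l v * zb z c ∈ Q ∧ π (l v * zb z c) = v := fun v c => by
    rcases F_cases c with e | e <;> rw [e]
    · rw [zb_zero, mul_one]; exact ⟨hl v, hlp v⟩
    · rw [zb_one]
      exact ⟨mul_mem (hl v) S.loc.mem, by rw [S.pi_mul _ (hl v) _ S.loc.mem, hlp, S.pi_z, add_zero]⟩
  let f : F × {v : V // p v} → {x : G // x ∈ Q ∧ p (π x)} := fun w =>
    ⟨l w.2 * zb z w.1, (hmem _ _).1, by rw [(hmem _ _).2]; exact w.2.2⟩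
  have hf : Function.Bijective f := by
    constructor
    · rintro ⟨c, v, hv⟩ ⟨d, w, hw⟩ e
      have e' : l v * zb z c = l w * zb z d := congrArg Subtype.val e
      have hvw : v = w := by rw [← (hmem v c).2, e', (hmem w d).2]
      subst hvw
      have h := mul_left_cancel e'
      rcases F_cases c with rfl | rfl <;> rcases F_cases d with rfl | rfl <;>
        simp_all [zb_zero, zb_one, S.loc.ne_one, Ne.symm S.loc.ne_one]
    · rintro ⟨x, hx, hp⟩
      rcases S.eq_of_pi hx (hl (π x)) (hlp _).symm with e | e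
      · exact ⟨⟨0, π x, hp⟩, Subtype.ext (show l (π x) * zb z 0 = x by rw [zb_zero, mul_one]; exact e.symm)⟩
      · exact ⟨⟨1, π x, hp⟩, Subtype.ext (show l (π x) * zb z 1 = x by rw [zb_one]; exact e.symm)⟩
  rw [← Nat.card_eq_of_bijective f hf, Nat.card_prod, Nat.card_zmod]

theorem card_U (S : Su z Q π ρ) : Nat.card (U Q π sv) = 32 := by
  have h := card_lift S (Perp sv)
  rw [perp_counts.1] at h
  rw [← show Nat.card {x : G // x ∈ Q ∧ Perp sv (π x)} = Nat.card (U Q π sv) from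
    Nat.card_congr (Equiv.subtypeEquivRight fun x => (mem_U S).symm), h]

theorem card_cen (S : Su z Q π ρ) : Nat.card (Cen Q π tv) = 1920 := by
  obtain ⟨ψ, hψ, hker⟩ := exists_cen_hom S two_std
  have hs := cen_hom_surj S two_std hψ
  have hk : Nat.card ψ.ker = 32 := by
    rw [← card_U S]
    exact Nat.card_congr
      { toFun := fun x => ⟨x.1.1, (cen_inf_Q S two_std).1 ⟨x.1.2, (hker x.1).1 x.2⟩⟩
        invFun := fun x => ⟨⟨x.1, ((cen_inf_Q S two_std).2 x.2).1⟩,
          (hker _).2 ((cen_inf_Q S two_std).2 x.2).2⟩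
        left_inv := fun _ => rfl
        right_inv := fun _ => rfl }
  rw [← ψ.ker.card_mul_index, Subgroup.index_ker, MonoidHom.range_eq_top.2 hs, Subgroup.card_top,
    HJ.card_A5, hk]

/-- The common centraliser of `z`, `s` and the fixed part commuting with `s`. -/
def common (z s : G) (Q : Subgroup G) (π : G → V) : Subgroup G :=
  centralizer ({z} : Set G) ⊓ centralizer ({s} : Set G) ⊓
    centralizer {x | x ∈ U Q π tv ∧ x * s = s * x}

/-- Its order. -/
theorem card_common {s g : G} (X : Fr z Q π ρ s g) (hse : π s = sv 0) :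
    Nat.card (common z s Q π) ≤ 61440 := by
  classical
  obtain ⟨pa, pv, ba, bv, h2, h3, h0, h1, h4, qf, fe, fa, fv⟩ := sv_facts
  have S := X.S
  obtain ⟨xa, hxa, pxa⟩ := S.pi_surj a0
  obtain ⟨xv, hxv, pxv⟩ := S.pi_surj v0
  have hxaR : xa ∈ U Q π tv ∧ xa * s = s * xa :=
    ⟨(mem_U S).2 ⟨hxa, by rwa [pxa]⟩, (X.bil_se hxa).2 (by rw [pxa, hse, h0, ba])⟩
  have hxvR : xv ∈ U Q π tv ∧ xv * s = s * xv :=
    ⟨(mem_U S).2 ⟨hxv, by rwa [pxv]⟩, (X.bil_se hxv).2 (by rw [pxv, hse, h0, bv])⟩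
  set W := common z s Q π with hW
  have hWz : ∀ w ∈ W, w * z = z * w := fun w hw => mem_centralizer_singleton_iff.1 hw.1.1
  have hfix : ∀ w ∈ W, ρ w e0 = e0 ∧ ρ w a0 = a0 ∧ ρ w v0 = v0 := by
    intro w hw
    have hz := hWz w hw
    refine ⟨?_, ?_, ?_⟩
    · rw [← h0, ← hse]; exact X.rho_fix hz (mem_centralizer_singleton_iff.1 hw.1.2)
    · rw [← pxa, ← S.conj w hz xa hxa, ← mem_centralizer_iff.1 hw.2 xa hxaR, mul_inv_cancel_right]
    · rw [← pxv, ← S.conj w hz xv hxv, ← mem_centralizer_iff.1 hw.2 xv hxvR, mul_inv_cancel_right]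
  -- the part fixing `f0`
  let W' := {w : G // w ∈ W ∧ ρ w f0 = f0}
  let WQ := {w : G // w ∈ W ∧ w ∈ Q}
  let T := {v : V // q v = 0 ∧ bil v e0 = 1 ∧ bil v a0 = 0 ∧ bil v v0 = 0}
  have hstep1 : Nat.card W ≤ Nat.card T * Nat.card W' := by
    have himg : ∀ w : W, q (ρ (w : G) f0) = 0 ∧ bil (ρ (w : G) f0) e0 = 1 ∧
        bil (ρ (w : G) f0) a0 = 0 ∧ bil (ρ (w : G) f0) v0 = 0 := fun w => by
      obtain ⟨we, wa, wv⟩ := hfix w w.2
      have hb := S.rho_bil (hWz w w.2)
      refine ⟨by rw [S.rho_q (hWz w w.2), qf], ?_, ?_, ?_⟩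
      · conv_lhs => arg 2; rw [← we]
        rw [hb, fe]
      · conv_lhs => arg 2; rw [← wa]
        rw [hb, fa]
      · conv_lhs => arg 2; rw [← wv]
        rw [hb, fv]
    let rep : T → W := fun v => if h : ∃ w : W, ρ (w : G) f0 = v.1 then h.choose else 1
    have hrep : ∀ w : W, ρ (rep ⟨_, himg w⟩ : G) f0 = ρ (w : G) f0 := fun w => by
      have h : ∃ u : W, ρ (u : G) f0 = ρ (w : G) f0 := ⟨w, rfl⟩
      simp only [rep, dif_pos h]
      exact h.choose_spec
    let f : W → T × W' := fun w => (⟨_, himg w⟩, ⟨(rep ⟨_, himg w⟩ : G)⁻¹ * w,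
      mul_mem (inv_mem (rep _).2) w.2, by
        rw [S.rho_mul (S.comm_inv (hWz _ (rep _).2)) (hWz w w.2)]
        refine (congrArg (ρ (rep ⟨_, himg w⟩ : G)⁻¹) (hrep w).symm).trans ?_
        rw [← S.rho_mul (S.comm_inv (hWz _ (rep _).2)) (hWz _ (rep _).2), inv_mul_cancel, S.rho_one]⟩)
    have hf : Function.Injective f := fun w w' e => by
      obtain ⟨e1, e2⟩ := Prod.ext_iff.1 e
      have e2' : (rep ⟨_, himg w⟩ : G)⁻¹ * w = (rep ⟨_, himg w'⟩ : G)⁻¹ * w' := congrArg Subtype.val e2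
      rw [show (⟨_, himg w⟩ : T) = ⟨_, himg w'⟩ from e1] at e2'
      exact Subtype.ext (mul_left_cancel e2')
    have := Nat.card_le_card_of_injective f hf
    rwa [Nat.card_prod] at this
  have hstep2 : Nat.card W' * Nat.card (U Q π sv) ≤ Nat.card (Cen Q π tv) * Nat.card WQ := by
    have hsv : ∀ w : W', ∀ i, ρ (w : G) (sv i) = sv i := fun w i => by
      obtain ⟨we, wa, wv⟩ := hfix w w.2.1
      have hadd := S.rho_add (hWz _ w.2.1)
      fin_cases i
      · show ρ _ (sv 0) = sv 0; rw [h0, we]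
      · show ρ _ (sv 1) = sv 1; rw [h1, w.2.2]
      · show ρ _ (sv 2) = sv 2; rw [h2, hadd, hadd, we, w.2.2, wa]
      · show ρ _ (sv 3) = sv 3; rw [h3, hadd, hadd, we, w.2.2, wv]
      · show ρ _ (sv 4) = sv 4; rw [h4, hadd, hadd, hadd, we, w.2.2, wa, wv]
    let m : (V → V) → G := fun f => if h : ∃ m ∈ Cen Q π tv, ρ m = f then h.choose else 1
    have hm : ∀ w : W', m (ρ (w : G)) ∈ Cen Q π tv ∧ ρ (m (ρ (w : G))) = ρ (w : G) := fun w => by
      have h : ∃ m ∈ Cen Q π tv, ρ m = ρ (w : G) :=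
        cen_lift S two_std (S.om _ (hWz _ w.2.1)) (hsv w)
      simp only [m, dif_pos h]
      exact h.choose_spec
    have hsC : s ∈ U Q π tv := (mem_U S).2 ⟨X.sQ, by rw [hse]; exact two_std.perp_self 0⟩
    have hMW : Cen Q π tv ≤ W := fun x hx => ⟨⟨mem_centralizer_singleton_iff.2 (cen_z S hx),
      mem_centralizer_singleton_iff.2 (mem_centralizer_iff.1 hx s hsC).symm⟩,
      mem_centralizer_iff.2 fun y hy => mem_centralizer_iff.1 hx y hy.1⟩
    let f : W' × U Q π sv → Cen Q π tv × WQ := fun p =>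
      (⟨m (ρ (p.1 : G)) * p.2, mul_mem (hm p.1).1 ((cen_inf_Q S two_std).2 p.2.2).1⟩,
        ⟨(m (ρ (p.1 : G)))⁻¹ * p.1, mul_mem (inv_mem (hMW (hm p.1).1)) p.1.2.1, by
          have hz1 := S.comm_inv (cen_z S (hm p.1).1)
          refine (S.ker _ (S.comm_mul hz1 (hWz _ p.1.2.1))).1 fun v => ?_
          rw [S.rho_mul hz1 (hWz _ p.1.2.1), ← congrFun (hm p.1).2 v,
            ← S.rho_mul hz1 (cen_z S (hm p.1).1), inv_mul_cancel, S.rho_one]⟩)
    have hf : Function.Injective f := by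
      rintro ⟨w, u⟩ ⟨w', u'⟩ e
      obtain ⟨e1, e2⟩ := Prod.ext_iff.1 e
      have e1' : m (ρ (w : G)) * u = m (ρ (w' : G)) * u' := congrArg Subtype.val e1
      have e2' : (m (ρ (w : G)))⁻¹ * w = (m (ρ (w' : G)))⁻¹ * w' := congrArg Subtype.val e2
      have huQ : ∀ u : U Q π sv, (u : G) ∈ Q := fun u => ((mem_U S).1 u.2).1
      have hρ : ρ (w : G) = ρ (w' : G) := funext fun v => by
        have h := congrArg (fun x => ρ x v) e1'
        simp only [S.rho_mul (cen_z S (hm w).1) (S.Qz (huQ u)),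
          S.rho_mul (cen_z S (hm w').1) (S.Qz (huQ u')), S.rho_Q (huQ u), S.rho_Q (huQ u'),
          (hm w).2, (hm w').2] at h
        exact h
      rw [hρ] at e1' e2'
      exact Prod.ext (Subtype.ext (mul_left_cancel e2')) (Subtype.ext (mul_left_cancel e1'))
    have := Nat.card_le_card_of_injective f hf
    rwa [Nat.card_prod, Nat.card_prod] at this
  have hWQ : Nat.card WQ ≤ 64 := by
    have h := card_lift S (fun v => bil v e0 = 0 ∧ bil v a0 = 0 ∧ bil v v0 = 0)
    rw [perp_counts.2.1] at h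
    refine le_trans ?_ h.le
    refine Nat.card_le_card_of_injective (fun w : WQ => (⟨w.1, w.2.2, ?_⟩ :
      {x : G // x ∈ Q ∧ bil (π x) e0 = 0 ∧ bil (π x) a0 = 0 ∧ bil (π x) v0 = 0})) ?_
    · refine ⟨?_, ?_, ?_⟩
      · rw [← h0, ← hse]; exact (X.bil_se w.2.2).1 (mem_centralizer_singleton_iff.1 w.2.1.1.2)
      · rw [← pxa]; exact (S.comm_iff w.2.2 hxa).1 (mem_centralizer_iff.1 w.2.1.2 xa hxaR).symm
      · rw [← pxv]; exact (S.comm_iff w.2.2 hxv).1 (mem_centralizer_iff.1 w.2.1.2 xv hxvR).symm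
    · intro w w' e
      exact Subtype.ext (Subtype.mk.inj e)
  rw [card_U S, card_cen S] at hstep2
  have hT : Nat.card T ≤ 16 := perp_counts.2.2
  have := hstep1.trans (Nat.mul_le_mul_right _ hT)
  omega

namespace Cfg

variable {β s g n : G} (c : Cfg z Q π ρ β s g n)
include c

theorem s_mem : s ∈ U Q π tv :=
  (mem_U c.X.S).2 ⟨c.X.sQ, by rw [c.se]; exact two_std.perp_self 0⟩

theorem s_P : s ∈ Cen Q π sv := c.Z.U_le_P c.s_mem

theorem z_P : z ∈ Cen Q π sv := c.Z.U_le_P (z_mem_U c.X.S)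

theorem commute_s {x : G} (hx : x ∈ Cen Q π tv) : x * s = s * x :=
  (mem_centralizer_iff.1 hx s c.s_mem).symm

theorem conj_commute {x y : G} (hx : n⁻¹ * x * n ∈ Cen Q π tv) (hy : n⁻¹ * y * n ∈ Cen Q π sv) :
    y * x = x * y := by
  have h := cen_commute c.X.S two_std hy hx
  calc y * x = n * (n⁻¹ * y * n * (n⁻¹ * x * n)) * n⁻¹ := by group
    _ = n * (n⁻¹ * x * n * (n⁻¹ * y * n)) * n⁻¹ := by rw [h]
    _ = x * y := by group

theorem nz' : n⁻¹ * z * n = s := by rw [← c.ns]; group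

theorem ns' : n⁻¹ * s * n = z := by rw [← c.nz]; group

/-- The conjugate complement contains the part of the first one that commutes with `s`. -/
theorem conj_P {x : G} (hx : x ∈ U Q π tv) (hxs : x * s = s * x) : n⁻¹ * x * n ∈ Cen Q π sv := by
  have hxQ := ((mem_U c.X.S).1 hx).1
  refine c.Z.four_mem ?_ ?_ ?_
  · rw [← c.ns']
    calc n⁻¹ * x * n * (n⁻¹ * s * n) = n⁻¹ * (x * s) * n := by group
      _ = n⁻¹ * (s * x) * n := by rw [hxs]
      _ = _ := by group
  · have h1 : Commute n⁻¹ β := (show Commute n β from c.nb).inv_left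
    have h2 : Commute x β := ((c.Z.mem_fix hxQ).2 hx).symm
    exact ((h1.mul_left h2).mul_left c.nb).eq
  · calc (n⁻¹ * x * n) ^ 4 = n⁻¹ * x ^ 4 * n := by simp [pow_succ, mul_assoc]
      _ = 1 := by rw [four_pow c.X.S hxQ]; group

/-- The common centraliser. -/
theorem meet_iso : Nonempty (↥(Cen Q π tv ⊓ (Cen Q π tv).map (MulAut.conj n).toMonoidHom) ≃*
    HJ.A5) := by
  classical
  set M := Cen Q π tv with hM
  set M' := (Cen Q π tv).map (MulAut.conj n).toMonoidHom with hM'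
  have S := c.X.S
  have hmem : ∀ {x : G}, x ∈ M' ↔ n⁻¹ * x * n ∈ M := fun {x} => by
    rw [hM', Subgroup.mem_map_equiv]; simp [MulAut.conj_symm_apply, hM]
  have hzn : n⁻¹ * z * n ∈ Cen Q π sv := by rw [c.nz']; exact c.s_P
  have hsn : n⁻¹ * s * n ∈ Cen Q π sv := by rw [c.ns']; exact c.z_P
  have hMW : M ≤ common z s Q π := fun x hx => ⟨⟨mem_centralizer_singleton_iff.2 (cen_z S hx),
    mem_centralizer_singleton_iff.2 (c.commute_s hx)⟩,
    mem_centralizer_iff.2 fun y hy => mem_centralizer_iff.1 hx y hy.1⟩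
  have hM'W : M' ≤ common z s Q π := fun x hx => ⟨⟨
    mem_centralizer_singleton_iff.2 (c.conj_commute (hmem.1 hx) hzn).symm,
    mem_centralizer_singleton_iff.2 (c.conj_commute (hmem.1 hx) hsn).symm⟩,
    mem_centralizer_iff.2 fun y hy => c.conj_commute (hmem.1 hx) (c.conj_P hy.1 hy.2)⟩
  set D := M ⊓ M' with hD
  have hcardD : 60 ≤ Nat.card D := by
    have h1 : Nat.card D * M'.relIndex M = 1920 := by
      rw [← card_cen S, ← Subgroup.inf_relIndex_left M M', Subgroup.relIndex, ← hD,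
        ← Nat.card_congr (Subgroup.subgroupOfEquivOfLe (inf_le_left : D ≤ M)).toEquiv,
        Subgroup.card_mul_index]
    have h2 : 1920 * M'.relIndex (common z s Q π) = Nat.card (common z s Q π) := by
      have hc : Nat.card M' = 1920 := by
        rw [← card_cen S]
        exact (Nat.card_congr ((Cen Q π tv).equivMapOfInjective _ (MulAut.conj n).injective).toEquiv).symm
      rw [← hc, Subgroup.relIndex, ← Nat.card_congr (Subgroup.subgroupOfEquivOfLe hM'W).toEquiv,
        Subgroup.card_mul_index]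
    have h3 : M'.relIndex M ≤ M'.relIndex (common z s Q π) :=
      Subgroup.relIndex_le_of_le_right hMW (by
        intro h0
        rw [h0, mul_zero] at h2
        exact Nat.card_pos.ne' h2.symm)
    have h4 := card_common c.X c.se
    rw [← h2] at h4
    have h5 : M'.relIndex M ≤ 32 := by omega
    have := Nat.mul_le_mul_left (Nat.card D) h5
    omega
  have hzD : ∀ x ∈ D, x ∈ Q → x = 1 ∨ (q (π x) = 0 ∧ π x ≠ 0 ∧ Perp sv (π x)) := by
    intro x hx hxQ
    have hP := ((mem_U S).1 ((cen_inf_Q S two_std).1 ⟨hx.1, hxQ⟩)).2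
    have hz : z ∉ D := fun h => by
      have h' := hmem.1 h.2
      rw [c.nz'] at h'
      have hf := ((mem_U S).1 ((cen_inf_Q S two_std).1 ⟨h', c.X.sQ⟩)).2 1
      rw [c.se, two_std.left.bij 0 1 (by decide)] at hf
      exact one_ne_zero hf
    have hq : q (π x) = 0 := (F_cases _).resolve_right fun e => hz (by
      have h2 := S.sq x hxQ
      rw [e, zb_one] at h2
      rw [← h2]; exact mul_mem hx hx)
    by_cases h0 : π x = 0
    · rcases (S.pi_eq x hxQ).1 h0 with e | e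
      · exact Or.inl e
      · exact absurd (e ▸ hx) hz
    · exact Or.inr ⟨hq, h0, hP⟩
  obtain ⟨ψ, hψ, hker⟩ := exists_cen_hom S two_std
  have hDQ : ∀ x ∈ D, x ∈ Q → x = 1 := by
    by_contra hno
    push Not at hno
    obtain ⟨x, hx, hxQ, hx1⟩ := hno
    obtain ⟨hq, h0, hP⟩ := (hzD x hx hxQ).resolve_left hx1
    obtain ⟨j, hj⟩ := two_std.right.sing_cases (two_std.symm.perp_iff.1 hP) hq h0
    have hone : ∀ y ∈ D, y ∈ Q → y = 1 ∨ y = x := by
      intro y hy hyQ
      rcases hzD y hy hyQ with e | ⟨hqy, hy0, hyP⟩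
      · exact Or.inl e
      obtain ⟨i, hi⟩ := two_std.right.sing_cases (two_std.symm.perp_iff.1 hyP) hqy hy0
      rcases hzD (x * y) (mul_mem hx hy) (mul_mem hxQ hyQ) with e | ⟨hq', h0', -⟩
      · right
        have hxx : x * x = 1 := by rw [S.sq x hxQ, hq, zb_zero]
        rw [← inv_eq_of_mul_eq_one_right e, inv_eq_of_mul_eq_one_right hxx]
      · rw [S.pi_mul x hxQ y hyQ, hi, hj] at hq' h0'
        by_cases hij : j = i
        · rw [hij, CoT.add_self] at h0'; exact absurd rfl h0'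
        · rw [two_std.right.q_pair hij] at hq'; exact absurd hq' one_ne_zero
    have hfix : ∀ y (hy : y ∈ D), ((ψ ⟨y, hy.1⟩ : HJ.A5) : Perm (Fin 5)) j = j := by
      intro y hy
      have hyz := cen_z S hy.1
      apply two_std.right.inj
      rw [← hψ ⟨y, hy.1⟩, ← hj, ← S.conj y hyz x hxQ]
      rcases hone _ (mul_mem (mul_mem hy hx) (inv_mem hy)) (S.conj_mem hyz hxQ) with e | e
      · exact absurd (conj_eq_one_iff.1 e) hx1
      · rw [e]
    let f : D → {σ : HJ.A5 // (σ : Perm (Fin 5)) j = j} × {y : D // (y : G) ∈ Q} := fun y =>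
      let r := Function.invFun (fun w : D => ψ ⟨w, w.2.1⟩) (ψ ⟨y, y.2.1⟩)
      (⟨ψ ⟨y, y.2.1⟩, hfix y y.2⟩, ⟨r⁻¹ * y, (hker ⟨_, (r⁻¹ * y).2.1⟩).1 (by
        have hr : ψ ⟨r, r.2.1⟩ = ψ ⟨y, y.2.1⟩ :=
          Function.invFun_eq (f := fun w : D => ψ ⟨w, w.2.1⟩) ⟨y, rfl⟩
        rw [show (⟨((r⁻¹ * y : D) : G), (r⁻¹ * y).2.1⟩ : M) = (⟨(r : G), r.2.1⟩ : M)⁻¹ * ⟨y, y.2.1⟩
          from rfl, map_mul, map_inv, hr, inv_mul_cancel])⟩)
    have hf : Function.Injective f := fun y y' e => by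
      obtain ⟨e1, e2⟩ := Prod.ext_iff.1 e
      have e1' : ψ ⟨y, y.2.1⟩ = ψ ⟨y', y'.2.1⟩ := congrArg Subtype.val e1
      have e2' := congrArg Subtype.val e2
      simp only [f, e1'] at e2'
      exact mul_left_cancel e2'
    have hle := Nat.card_le_card_of_injective f hf
    have h2 : Nat.card {y : D // (y : G) ∈ Q} ≤ 2 := by
      let k : {y : D // (y : G) ∈ Q} → Bool := fun y => decide (((y : D) : G) = 1)
      have hk : Function.Injective k := by
        rintro ⟨⟨a, ha⟩, haQ⟩ ⟨⟨b, hb⟩, hbQ⟩ e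
        simp only [k, decide_eq_decide] at e
        rcases hone a ha haQ with r | r <;> rcases hone b hb hbQ with r' | r'
        · exact Subtype.ext (Subtype.ext (r.trans r'.symm))
        · exact absurd (r' ▸ e.1 r) hx1
        · exact absurd (r ▸ e.2 r') hx1
        · exact Subtype.ext (Subtype.ext (r.trans r'.symm))
      simpa using Nat.card_le_card_of_injective k hk
    rw [Nat.card_prod, show Nat.card {σ : HJ.A5 // (σ : Perm (Fin 5)) j = j} = 12 by
      rw [Nat.card_eq_fintype_card, Fintype.card_subtype]; exact HJ.card_stab j] at hle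
    have := Nat.mul_le_mul_left 12 h2
    omega
  let ψD : D →* HJ.A5 := ψ.comp (Subgroup.inclusion inf_le_left)
  have hinj : Function.Injective ψD := (injective_iff_map_eq_one ψD).2 fun y hy =>
    Subtype.ext (hDQ y y.2 ((hker _).1 hy))
  have hbij : Function.Bijective ψD := (Nat.bijective_iff_injective_and_card ψD).2 ⟨hinj,
    le_antisymm (Nat.card_le_card_of_injective ψD hinj) (by rw [HJ.card_A5]; exact hcardD)⟩
  exact ⟨MulEquiv.ofBijective ψD hbij⟩

end Cfg

end Cfsg.Agent.CoFive
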