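import Cfsg.Agent.Lib.CoFive.Meet
import Cfsg.Agent.Lib.CoFive.Gen
import Cfsg.Agent.Lib.CoT.Lower
import Cfsg.Agent.Lib.Components.Basic

/-!
The centraliser of the element of order five modulo its group is of Hall–Janko type, and its layer.
-/

set_option autoImplicit false
set_option linter.style.haveILetI false
set_option linter.unusedSectionVars false
set_option maxRecDepth 20000
set_option synthInstance.maxSize 4000
set_option synthInstance.maxHeartbeats 400000

open scoped commutatorElement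

namespace Cfsg.Agent.CoFive

open Cfsg.Agent.CoT Equiv Subgroup

local notation "F" => ZMod 2

variable {G : Type*} [Group G] [Finite G] {z : G} {Q : Subgroup G} {π : G → V} {ρ : G → V → V}
  {β s g n : G}

instance five_group_normal (b : G) : ((zpowers b).subgroupOf (centralizer ({b} : Set G))).Normal :=
  ⟨fun x hx y => by
    rw [mem_subgroupOf] at hx ⊢
    obtain ⟨i, hi⟩ := mem_zpowers_iff.1 hx
    have h : Commute (y : G) (x : G) := hi ▸ Commute.zpow_right (mem_centralizer_singleton_iff.1 y.2) i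
    rw [Subgroup.coe_mul, Subgroup.coe_mul, InvMemClass.coe_inv, h.eq, mul_inv_cancel_right]
    exact hx⟩

namespace Cfg

variable (c : Cfg z Q π ρ β s g n)
include c

/-- An involution of the complement not conjugate to `z`. -/
theorem exists_outer : ∃ t ∈ Cen Q π sv, t * t = 1 ∧ t ≠ 1 ∧ ¬ IsConj z t := by
  have S := c.X.S
  have X := c.X
  obtain ⟨pa, pv, ba, bv, -, -, h0, -⟩ := sv_facts
  obtain ⟨a, ha, pia⟩ := X.exists_A (v := a0) (by rw [c.se, h0, ba])
  obtain ⟨b, hb, hvb⟩ := X.exists_B (v := v0) (by rw [c.se, h0, bv])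
  have P : Pr z Q π ρ s g a b a0 v0 := ⟨X, by rw [c.se, h0], ha, hb, pia, hvb, lin_p⟩
  have haU : a ∈ U Q π tv := (mem_U S).2 ⟨ha.1, by rwa [pia]⟩
  have hβa : β * a = a * β := (c.Z.mem_fix ha.1).2 haU
  have hβs : β * s = s * β := (c.Z.mem_fix X.sQ).2 c.s_mem
  obtain ⟨hb', hvb'⟩ := X.conj_B c.Z.hz hβs hb hvb
  have hfixv : ρ β v0 = v0 := (c.Z.fix _).2 pv
  rw [hfixv] at hvb'
  have hd := X.B_diff hb hb' hvb hvb' (Eqv.refl _ _)
  set d := b⁻¹ * (β * b * β⁻¹) with hd'
  have hdβ : β * d = d * β := by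
    refine (c.Z.mem_fix hd.1).2 ((mem_U S).2 ⟨hd.1, ?_⟩)
    rcases Eqv.iff_add.1 (X.E_pi hd) with e | e <;> rw [add_zero] at e <;> rw [e]
    · exact fun i => bil_zero_left _
    · rw [c.se]; exact two_std.perp_self 0
  have hrec : ∀ k : ℕ, β ^ k * b * (β ^ k)⁻¹ = b * d ^ k := by
    intro k
    induction k with
    | zero => simp
    | succ k ih =>
      have hk : β * d ^ k = d ^ k * β := (Commute.pow_right hdβ k).eq
      calc β ^ (k + 1) * b * (β ^ (k + 1))⁻¹ = β * (β ^ k * b * (β ^ k)⁻¹) * β⁻¹ := by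
            rw [pow_succ']; group
        _ = β * b * β⁻¹ * (β * d ^ k * β⁻¹) := by rw [ih]; group
        _ = b * d ^ (k + 1) := by
          rw [hk, mul_inv_cancel_right, pow_succ', ← mul_assoc b, hd', mul_inv_cancel_left]
  have h5 := hrec 5
  rw [c.Z.beta_pow_five, inv_one, one_mul, mul_one, left_eq_mul] at h5
  have hd1 : d = 1 := eq_one_of_pow (m := 2) (n := 5) (by rw [pow_two]; exact X.E_inv hd) h5 (by norm_num)
  have hβb : β * b * β⁻¹ = b := by
    rw [hd', inv_mul_eq_one] at hd1; exact hd1.symm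
  refine ⟨a * b, c.Z.four_mem P.hxz ?_ ?_, P.x_sq, P.x_ne_one, P.not_conj_z⟩
  · exact (((show Commute β a from hβa).mul_right (mul_inv_eq_iff_eq_mul.1 hβb : Commute β b)).symm).eq
  · rw [show (4 : ℕ) = 2 * 2 from rfl, pow_mul, pow_two (a * b), P.x_sq, one_pow]

/-- The layer of the centraliser of `β`, its type, and its centraliser. -/
theorem layer_data : Cfsg.Spor.IsoJ2 ↥(Cfsg.layer ↥(centralizer ({β} : Set G))) ∧
    Nonempty (↥(centralizer (((Cfsg.layer ↥(centralizer ({β} : Set G))).map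
      (Subgroup.subtype _)) : Set G)) ≃* HJ.A5) := by
  classical
  have S := c.X.S
  have Z := c.Z
  set CB := centralizer ({β} : Set G) with hCB
  set Bc := (zpowers β).subgroupOf CB with hBc
  let K := CB ⧸ Bc
  let q : CB →* K := QuotientGroup.mk' Bc
  have hPC : Cen Q π sv ≤ CB := fun p hp => mem_centralizer_singleton_iff.2 (Z.beta_P hp)
  have hzC : z ∈ CB := hPC c.z_P
  have hnC : n ∈ CB := mem_centralizer_singleton_iff.2 c.nb
  let j : Cen Q π sv →* K := q.comp (inclusion hPC)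
  have hbpow : ∀ {x : G}, x ∈ zpowers β → ∃ k : ℕ, β ^ k = x := fun hx => by
    obtain ⟨k, -, hk⟩ := Finset.mem_image.1 ((isOfFinOrder_of_finite β).mem_zpowers_iff_mem_range_orderOf.1 hx)
    exact ⟨k, hk⟩
  have hjinj : Function.Injective j := (injective_iff_map_eq_one j).2 fun p hp => by
    obtain ⟨k, hk⟩ := hbpow (mem_subgroupOf.1 ((QuotientGroup.eq_one_iff _).1 hp))
    have hk' : β ^ k = (p : G) := hk
    exact Subtype.ext (hk'.symm.trans (Z.beta_disj (hk' ▸ p.2)))
  set zP : Cen Q π sv := ⟨z, c.z_P⟩ with hzP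
  set zK : K := j zP with hzK
  have hzK1 : zK ≠ 1 := fun e => S.loc.ne_one
    (congrArg Subtype.val (hjinj (e.trans (map_one j).symm)))
  have hzz : zK * zK = 1 := by
    rw [hzK, ← map_mul, show zP * zP = 1 from Subtype.ext S.loc.sq, map_one]
  -- the centraliser of the image of `z`
  have hjC : ∀ p, j p ∈ centralizer ({zK} : Set K) := fun p => mem_centralizer_singleton_iff.2 (by
    rw [hzK, ← map_mul, ← map_mul]
    exact congrArg j (Subtype.ext (Z.P_le_z p.2)))
  have hfac : ∀ h : K, h * zK = zK * h → ∃ p, j p = h := by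
    intro h hh
    obtain ⟨x, rfl⟩ := QuotientGroup.mk'_surjective Bc h
    have h1 : (x * ⟨z, hzC⟩ * x⁻¹ * (⟨z, hzC⟩ : CB)⁻¹) ∈ Bc := by
      refine (QuotientGroup.eq_one_iff _).1 ?_
      show q (x * ⟨z, hzC⟩ * x⁻¹ * (⟨z, hzC⟩ : CB)⁻¹) = 1
      rw [map_mul, map_mul, map_mul, map_inv, map_inv, show q ⟨z, hzC⟩ = zK from rfl]
      show q x * zK * (q x)⁻¹ * zK⁻¹ = 1
      rw [show q x * zK = zK * q x from hh, mul_inv_cancel_right, mul_inv_cancel]
    obtain ⟨k, hk⟩ := hbpow (mem_subgroupOf.1 h1)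
    have hk' : (x : G) * z * (x : G)⁻¹ = β ^ k * z := by
      rw [show β ^ k = (x : G) * z * (x : G)⁻¹ * z⁻¹ from hk]; group
    have hsq : β ^ k * β ^ k = 1 := by
      calc β ^ k * β ^ k = β ^ k * β ^ k * (z * z) := by rw [S.loc.sq, mul_one]
        _ = β ^ k * z * (β ^ k * z) := (show Commute (β ^ k) z from Z.beta_z k).mul_mul_mul_comm _ _
        _ = (x : G) * (z * z) * (x : G)⁻¹ := by rw [← hk']; group
        _ = 1 := by rw [S.loc.sq]; group
    have hk1 : β ^ k = 1 := eq_one_of_pow (m := 2) (n := 5) (by rw [pow_two, hsq])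
      (by rw [← pow_mul, mul_comm, pow_mul, Z.beta_pow_five, one_pow]) (by norm_num)
    rw [hk1, one_mul, mul_inv_eq_iff_eq_mul] at hk'
    obtain ⟨p, hp, i, hpi⟩ := Z.factor hk' (mem_centralizer_singleton_iff.1 x.2)
    refine ⟨⟨p, hp⟩, (QuotientGroup.eq (s := Bc)).2 (mem_subgroupOf.2 ?_)⟩
    show p⁻¹ * (x : G) ∈ zpowers β
    rw [hpi, inv_mul_cancel_left]
    exact Subgroup.npow_mem_zpowers β i
  let J : Cen Q π sv →* centralizer ({zK} : Set K) := j.codRestrict _ hjC
  have hJ : Function.Bijective J := ⟨fun a b e => hjinj (congrArg Subtype.val e), fun h => by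
    obtain ⟨p, hp⟩ := hfac h (mem_centralizer_singleton_iff.1 h.2)
    exact ⟨p, Subtype.ext hp⟩⟩
  let e := MulEquiv.ofBijective J hJ
  obtain ⟨ψ, hψ, hker⟩ := exists_cen_hom S two_std.symm
  let φ : centralizer ({zK} : Set K) →* HJ.A5 := ψ.comp e.symm.toMonoidHom
  let QK : Subgroup K := ((U Q π tv).subgroupOf (Cen Q π sv)).map j
  have hQK : ∀ {x : K}, x ∈ QK ↔ ∃ p : Cen Q π sv, (p : G) ∈ U Q π tv ∧ j p = x := fun {x} => Iff.rfl
  obtain ⟨t, htP, htt, ht1, htz⟩ := c.exists_outer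
  have hHJ : HJ.Setup zK QK φ :=
  { zz := hzz
    zne := hzK1
    card := by
      have h1 : Nat.card QK = Nat.card (U Q π tv) := by
        rw [← Nat.card_congr (Subgroup.subgroupOfEquivOfLe Z.U_le_P).toEquiv]
        exact (Nat.card_congr (((U Q π tv).subgroupOf _).equivMapOfInjective j hjinj).toEquiv).symm
      have h2 : Nat.card {v : V // Perp tv v} = 16 := by
        rw [Nat.card_eq_fintype_card]; decide +kernel
      have h := card_lift S (Perp tv)
      rw [h2] at h
      rw [h1, ← show Nat.card {x : G // x ∈ Q ∧ Perp tv (π x)} = Nat.card (U Q π tv) from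
        Nat.card_congr (Equiv.subtypeEquivRight fun x => (mem_U S).symm), h]
    zQ := hQK.2 ⟨zP, z_mem_U S, rfl⟩
    center := by
      rintro x hx hall
      obtain ⟨p, hp, rfl⟩ := hQK.1 hx
      have hpM : (p : G) ∈ Cen Q π tv := mem_centralizer_iff.2 fun u hu => by
        have := hjinj (by simpa [map_mul] using hall _ (hQK.2 ⟨⟨u, Z.U_le_P hu⟩, hu, rfl⟩) :
          j (p * ⟨u, Z.U_le_P hu⟩) = j (⟨u, Z.U_le_P hu⟩ * p))
        exact (congrArg Subtype.val this).symm
      obtain ⟨hpQ, hP1⟩ := (mem_U S).1 hp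
      have hP2 := ((mem_U S).1 ((cen_inf_Q S two_std).1 ⟨hpM, hpQ⟩)).2
      rcases (S.pi_eq _ hpQ).1 (two_std.total _ hP2 hP1) with e | e
      · exact Or.inl (by rw [show p = 1 from Subtype.ext e, map_one])
      · exact Or.inr (by rw [hzK, show p = zP from Subtype.ext e])
    comm := by
      rintro x hx y hy
      obtain ⟨a, ha, rfl⟩ := hQK.1 hx
      obtain ⟨b, hb, rfl⟩ := hQK.1 hy
      have h := S.rule ((mem_U S).1 ha).1 ((mem_U S).1 hb).1
      rcases F_cases (bil (π (a : G)) (π (b : G))) with e | e <;> rw [e] at h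
      · left; rw [← map_mul, ← map_mul]; exact congrArg j (Subtype.ext (by simpa [zb_zero] using h))
      · right; rw [hzK, ← map_mul, ← map_mul, ← map_mul]
        exact congrArg j (Subtype.ext (by simpa [zb_one] using h))
    sq := by
      rintro x hx
      obtain ⟨a, ha, rfl⟩ := hQK.1 hx
      have h := S.sq _ ((mem_U S).1 ha).1
      rcases F_cases (CoT.q (π (a : G))) with e | e <;> rw [e] at h
      · left; rw [← map_mul, ← map_one j]; exact congrArg j (Subtype.ext (by simpa [zb_zero] using h))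
      · right; rw [hzK, ← map_mul]; exact congrArg j (Subtype.ext (by simpa [zb_one] using h))
    self := by
      intro h hh hall
      obtain ⟨p, rfl⟩ := hfac h hh
      have hpM : (p : G) ∈ Cen Q π tv := mem_centralizer_iff.2 fun u hu => by
        have := hjinj (by simpa [map_mul] using hall _ (hQK.2 ⟨⟨u, Z.U_le_P hu⟩, hu, rfl⟩) :
          j (p * ⟨u, Z.U_le_P hu⟩) = j (⟨u, Z.U_le_P hu⟩ * p))
        exact (congrArg Subtype.val this).symm
      have hpQ : (p : G) ∈ Q := (S.ker _ (Z.P_le_z p.2)).1 (congrFun (two_std.ext (f := ρ (p : G))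
        (g := fun v => v) (S.rho_add (Z.P_le_z p.2)) (fun _ _ => rfl) (cen_fix S two_std hpM)
        (cen_fix S two_std.symm p.2)))
      exact hQK.2 ⟨p, (cen_inf_Q S two_std.symm).1 ⟨p.2, hpQ⟩, rfl⟩
    surj := (cen_hom_surj S two_std.symm hψ).comp e.symm.surjective
    ker := by
      intro h
      show ψ (e.symm h) = 1 ↔ _
      obtain ⟨p, rfl⟩ := e.surjective h
      rw [MulEquiv.symm_apply_apply, hker]
      show _ ↔ j p ∈ QK
      rw [hQK]
      exact ⟨fun hQ => ⟨p, (cen_inf_Q S two_std.symm).1 ⟨p.2, hQ⟩, rfl⟩,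
        fun ⟨p', hp', e'⟩ => hjinj e' ▸ ((mem_U S).1 hp').1⟩
    nwc := by
      refine ⟨q ⟨n, hnC⟩, ?_⟩
      have hcj : q ⟨n, hnC⟩ * zK * (q ⟨n, hnC⟩)⁻¹ = j ⟨s, c.s_P⟩ := by
        rw [hzK, show j zP = q ⟨z, hzC⟩ from rfl, ← map_mul, ← map_inv, ← map_mul]
        exact congrArg q (Subtype.ext c.nz)
      rw [hcj]
      exact ⟨hQK.2 ⟨_, c.s_mem, rfl⟩, fun e => c.X.sne (congrArg Subtype.val (hjinj (e.trans hzK)))⟩
    two := by
      refine ⟨j ⟨t, htP⟩, by rw [← map_mul, ← map_one j]; exact congrArg j (Subtype.ext htt),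
        fun e => ?_, fun k e => ?_⟩
      · exact ht1 (congrArg Subtype.val (hjinj (e.trans (map_one j).symm)))
      · obtain ⟨x, rfl⟩ := QuotientGroup.mk'_surjective Bc k
        have hx : q (x * ⟨z, hzC⟩ * x⁻¹) = q (inclusion hPC ⟨t, htP⟩) := by
          rw [map_mul, map_mul, map_inv]; exact e
        obtain ⟨i, hi⟩ := hbpow (mem_subgroupOf.1 ((QuotientGroup.eq (s := Bc)).1 hx.symm))
        have hi' : β ^ i = t⁻¹ * ((x : G) * z * (x : G)⁻¹) := hi
        have hxe : (x : G) * z * (x : G)⁻¹ = t * β ^ i := by rw [hi']; group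
        have hsq : β ^ i * β ^ i = 1 := by
          have hc : Commute t (β ^ i) := Commute.pow_right (Z.beta_P htP) i
          calc β ^ i * β ^ i = (t * t) * (β ^ i * β ^ i) := by rw [htt, one_mul]
            _ = t * β ^ i * (t * β ^ i) := by rw [hc.mul_mul_mul_comm]
            _ = (x : G) * (z * z) * (x : G)⁻¹ := by rw [← hxe]; group
            _ = 1 := by rw [S.loc.sq]; group
        have hi1 : β ^ i = 1 := eq_one_of_pow (m := 2) (n := 5) (by rw [pow_two, hsq])
          (by rw [← pow_mul, mul_comm, pow_mul, Z.beta_pow_five, one_pow]) (by norm_num)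
        rw [hi1, mul_one] at hxe
        exact htz (isConj_iff.2 ⟨(x : G), hxe⟩) }
  set P₁ := (Cen Q π sv).map (MulAut.conj n).toMonoidHom with hP₁
  set L := Cen Q π sv ⊔ P₁ with hL
  have hLC : L ≤ CB := sup_le hPC (by
    rintro _ ⟨p, hp, rfl⟩
    exact mul_mem (mul_mem hnC (hPC hp)) (inv_mem hnC))
  -- generation
  have htopK : (L.subgroupOf CB).map q = ⊤ := by
    refine gen_top hHJ (s := j ⟨s, c.s_P⟩) ⟨hQK.2 ⟨_, c.s_mem, rfl⟩, ?_, fun e => ?_, fun e => ?_⟩
      (fun h hh => ?_) (fun h hh => ?_)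
    · rw [← map_mul, ← map_one j]; exact congrArg j (Subtype.ext c.X.ss)
    · exact c.X.sne_one (congrArg Subtype.val (hjinj (e.trans (map_one j).symm)))
    · exact c.X.sne (congrArg Subtype.val (hjinj (e.trans hzK)))
    · obtain ⟨p, rfl⟩ := hfac h (mem_centralizer_singleton_iff.1 hh)
      exact ⟨inclusion hPC p, mem_subgroupOf.2 (mem_sup_left p.2), rfl⟩
    · have hh' := mem_centralizer_singleton_iff.1 hh
      obtain ⟨x, rfl⟩ := QuotientGroup.mk'_surjective Bc h
      have hh'' : q x * j ⟨s, c.s_P⟩ = j ⟨s, c.s_P⟩ * q x := hh'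
      have hcj : q ⟨n, hnC⟩ * zK * (q ⟨n, hnC⟩)⁻¹ = j ⟨s, c.s_P⟩ := by
        rw [hzK, show j zP = q ⟨z, hzC⟩ from rfl, ← map_mul, ← map_inv, ← map_mul]
        exact congrArg q (Subtype.ext c.nz)
      obtain ⟨p, hp⟩ := hfac (q ((⟨n, hnC⟩ : CB)⁻¹ * x * ⟨n, hnC⟩)) (by
        rw [map_mul, map_mul, map_inv]
        rw [← hcj] at hh''
        calc (q ⟨n, hnC⟩)⁻¹ * q x * q ⟨n, hnC⟩ * zK
            = (q ⟨n, hnC⟩)⁻¹ * (q x * (q ⟨n, hnC⟩ * zK * (q ⟨n, hnC⟩)⁻¹)) * q ⟨n, hnC⟩ := by group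
          _ = (q ⟨n, hnC⟩)⁻¹ * (q ⟨n, hnC⟩ * zK * (q ⟨n, hnC⟩)⁻¹ * q x) * q ⟨n, hnC⟩ := by rw [hh'']
          _ = _ := by group)
      refine ⟨⟨n, hnC⟩ * inclusion hPC p * (⟨n, hnC⟩ : CB)⁻¹,
        mem_subgroupOf.2 (mem_sup_right ⟨p, p.2, rfl⟩), ?_⟩
      have hp' : q (inclusion hPC p) = q ((⟨n, hnC⟩ : CB)⁻¹ * x * ⟨n, hnC⟩) := hp
      rw [map_mul, map_mul, hp', ← map_mul, ← map_mul]
      congr 1
      group
  -- the common centraliser
  set D := Cen Q π tv ⊓ (Cen Q π tv).map (MulAut.conj n).toMonoidHom with hD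
  obtain ⟨ιD⟩ := c.meet_iso
  have hDmem : ∀ {x : G}, x ∈ D ↔ x ∈ Cen Q π tv ∧ n⁻¹ * x * n ∈ Cen Q π tv := fun {x} => by
    rw [hD, mem_inf, Subgroup.mem_map_equiv]; simp [MulAut.conj_symm_apply]
  have hDL : centralizer (L : Set G) = D := by
    refine le_antisymm (fun x hx => hDmem.2 ⟨Z.cent_P fun p hp =>
      (mem_centralizer_iff.1 hx p (mem_sup_left hp)).symm, Z.cent_P fun p hp => ?_⟩) fun x hx => ?_
    · have h := mem_centralizer_iff.1 hx (n * p * n⁻¹) (mem_sup_right ⟨p, hp, rfl⟩)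
      calc n⁻¹ * x * n * p = n⁻¹ * (x * (n * p * n⁻¹)) * n := by group
        _ = n⁻¹ * (n * p * n⁻¹ * x) * n := by rw [h]
        _ = p * (n⁻¹ * x * n) := by group
    · obtain ⟨hx1, hx2⟩ := hDmem.1 hx
      have hle : L ≤ centralizer ({x} : Set G) := sup_le
        (fun p hp => mem_centralizer_singleton_iff.2 (cen_commute S two_std hp hx1))
        (by
          rintro _ ⟨p, hp, rfl⟩
          refine mem_centralizer_singleton_iff.2 (c.conj_commute hx2 ?_)
          show n⁻¹ * (n * p * n⁻¹) * n ∈ _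
          rw [show n⁻¹ * (n * p * n⁻¹) * n = p by group]
          exact hp)
      exact mem_centralizer_iff.2 fun p hp => mem_centralizer_singleton_iff.1 (hle hp)
  have hβD : β ∈ D := hDmem.2 ⟨Z.beta_mem, by
    rw [mul_assoc, ← c.nb, inv_mul_cancel_left]; exact Z.beta_mem⟩
  haveI : Fact (Nat.Prime 5) := ⟨by norm_num⟩
  have hβL : β ∉ L := by
    intro hβ
    have hcen : ∀ d : D, d * ⟨β, hβD⟩ = ⟨β, hβD⟩ * d := fun d => Subtype.ext (by
      have hd : (d : G) ∈ centralizer (L : Set G) := hDL.symm ▸ d.2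
      exact (mem_centralizer_iff.1 hd β hβ).symm)
    have h1 : ιD ⟨β, hβD⟩ = 1 := by
      have hcen' : ∀ σ : HJ.A5, σ * ιD ⟨β, hβD⟩ = ιD ⟨β, hβD⟩ * σ := fun σ => by
        have h := congrArg ιD (hcen (ιD.symm σ))
        rwa [map_mul, map_mul, MulEquiv.apply_symm_apply] at h
      revert hcen'
      generalize ιD ⟨β, hβD⟩ = τ
      revert τ
      decide +kernel
    have hb1 : (⟨β, hβD⟩ : D) = 1 := ιD.injective (h1.trans (map_one ιD).symm)
    have h5 := Z.five
    rw [show β = 1 from congrArg Subtype.val hb1, orderOf_one] at h5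
    norm_num at h5
  set L' := L.subgroupOf CB with hL'
  have hinter : ∀ x ∈ L', x ∈ Bc → x = 1 := by
    intro x hx hxB
    obtain ⟨k, hk⟩ := mem_zpowers_iff.1 (mem_subgroupOf.1 hxB)
    by_contra hne
    refine hβL ?_
    have hgen : zpowers (x : G) = zpowers β := by
      have hle : zpowers (x : G) ≤ zpowers β := zpowers_le.2 (mem_subgroupOf.1 hxB)
      have hd := Subgroup.card_dvd_of_le hle
      rw [Nat.card_zpowers, Nat.card_zpowers, Z.five] at hd
      rcases (Nat.dvd_prime (by norm_num)).1 hd with e | e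
      · exact absurd (Subtype.ext (orderOf_eq_one_iff.1 e)) hne
      · exact Subgroup.eq_of_le_of_card_ge hle (by rw [Nat.card_zpowers, Nat.card_zpowers, Z.five, e])
    exact zpowers_le.2 (mem_subgroupOf.1 hx) (hgen ▸ mem_zpowers β)
  let r : L' →* K := q.comp L'.subtype
  have hr : Function.Bijective r := ⟨(injective_iff_map_eq_one r).2 fun x hx =>
    Subtype.ext (hinter _ x.2 ((QuotientGroup.eq_one_iff _).1 hx)), fun h => by
      obtain ⟨x, hx, e⟩ := htopK.ge (mem_top h)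
      exact ⟨⟨x, hx⟩, e⟩⟩
  obtain ⟨eJ⟩ := HJUniq.setup_iso hHJ
  let eL : L' ≃* Cfsg.Spor.J2 := (MulEquiv.ofBijective r hr).trans eJ
  haveI : IsSimpleGroup Cfsg.Spor.J2 := S1620.result.1
  haveI : Nontrivial L' := eL.toEquiv.nontrivial
  haveI : IsSimpleGroup L' :=
    IsSimpleGroup.isSimpleGroup_of_surjective eL.symm.toMonoidHom eL.symm.surjective
  have hnc : ∃ a b : L', a * b ≠ b * a := by
    obtain ⟨a, b, hab⟩ := S1620.result.2
    exact ⟨eL.symm a, eL.symm b, fun h => hab (by simpa using congrArg eL h)⟩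
  have hqs : Cfsg.IsQuasisimple L' := by
    have hcen : center L' = ⊥ := by
      rcases (inferInstance : (center L').Normal).eq_bot_or_eq_top with e | e
      · exact e
      · obtain ⟨a, b, hab⟩ := hnc
        exact absurd ((mem_center_iff.1 (e ▸ mem_top a : a ∈ center L') b).symm) hab
    refine ⟨⟨?_⟩, ?_⟩
    · rcases (inferInstance : (commutator L').Normal).eq_bot_or_eq_top with e | e
      · obtain ⟨a, b, hab⟩ := hnc
        have h : ⁅a, b⁆ ∈ commutator L' := Subgroup.commutator_mem_commutator (mem_top a) (mem_top b)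
        rw [e, mem_bot, commutatorElement_eq_one_iff_mul_comm] at h
        exact absurd h hab
      · exact e
    · let e' : L' ⧸ center L' ≃* L' := (QuotientGroup.quotientMulEquivOfEq hcen).trans QuotientGroup.quotientBot
      haveI : Nontrivial (L' ⧸ center L') := e'.toEquiv.nontrivial
      exact IsSimpleGroup.isSimpleGroup_of_surjective e'.symm.toMonoidHom e'.symm.surjective
  have hcentB : ∀ b ∈ Bc, ∀ x : CB, x * b = b * x := fun b hb x => Subtype.ext (by
    obtain ⟨k, hk⟩ := mem_zpowers_iff.1 (mem_subgroupOf.1 hb)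
    show (x : G) * b = b * x
    rw [← hk]
    exact (Commute.zpow_right (mem_centralizer_singleton_iff.1 x.2) k).eq)
  have hsplit : ∀ x : CB, ∃ l ∈ L', ∃ b ∈ Bc, x = l * b := by
    intro x
    obtain ⟨l, hl, e⟩ := htopK.ge (mem_top (q x))
    exact ⟨l, hl, l⁻¹ * x, (QuotientGroup.eq (s := Bc)).1 e, (mul_inv_cancel_left l x).symm⟩
  haveI hLn : L'.Normal := ⟨fun x hx y => by
    obtain ⟨l, hl, b, hb, rfl⟩ := hsplit y
    rw [show l * b * x * (l * b)⁻¹ = l * (b * x * b⁻¹) * l⁻¹ by group, ← hcentB b hb x,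
      mul_inv_cancel_right]
    exact mul_mem (mul_mem hl hx) (inv_mem hl)⟩
  have hcomp : Cfsg.IsComponent L' := ⟨hLn.isSubnormal, hqs⟩
  have hlayer : Cfsg.layer ↥CB = L' := by
    refine le_antisymm (Components.layer_le_iff.2 fun M hM => ?_) (Components.component_le_layer hcomp)
    rcases Components.component_le_or_commute hM hLn.isSubnormal with h | h
    · exact h
    exfalso
    refine Components.quasisimple_not_commutative hM.2 ⟨⟨fun a b => Subtype.ext ?_⟩⟩
    obtain ⟨l, hl, v, hv, hlv⟩ := hsplit (b : CB)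
    have hal : (a : CB) * l = l * (a : CB) :=
      ((mem_centralizer_iff.1 (Subgroup.commutator_eq_bot_iff_le_centralizer.1 h a.2)) l hl).symm
    show (a : CB) * b = b * a
    rw [hlv, ← mul_assoc, hal, mul_assoc, hcentB v hv, ← mul_assoc]
  refine ⟨hlayer.symm ▸ (⟨eL⟩ : Cfsg.Spor.IsoJ2 L'), ?_⟩
  rw [show (Cfsg.layer ↥(centralizer ({β} : Set G))).map (Subgroup.subtype _) = L by
    rw [show Cfsg.layer ↥(centralizer ({β} : Set G)) = L' from hlayer, hL', map_subgroupOf_eq_of_le hLC]]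
  exact ⟨(MulEquiv.subgroupCongr hDL).trans ιD⟩

end Cfg

end Cfsg.Agent.CoFive
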