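import Cfsg.Agent.Lib.CoFive.Space
import Cfsg.Agent.Lib.CoT.Frame

/-!
An element of order five of the centraliser whose fixed points on the extraspecial subgroup form an
elliptic group of order 32; coordinates adapted to it.
-/

set_option autoImplicit false
set_option linter.style.haveILetI false
set_option linter.unusedSectionVars false
set_option maxRecDepth 20000
set_option synthInstance.maxSize 4000
set_option synthInstance.maxHeartbeats 400000

namespace Cfsg.Agent.CoFive

open Cfsg.Agent.CoT Equiv Subgroup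

local notation "F" => ZMod 2

/-- The setting with adapted coordinates. -/
structure Fv {G : Type*} [Group G] (z : G) (Q : Subgroup G) (π : G → V) (ρ : G → V → V) (β : G) :
    Prop where
  S : Su z Q π ρ
  five : orderOf β = 5
  hz : β * z = z * β
  fix : ∀ v, ρ β v = v ↔ Perp tv v

variable {G : Type*} [Group G] [Finite G] {z : G} {Q : Subgroup G} {π : G → V} {ρ : G → V → V}
  {β : G}

theorem rho_pow (S : Su z Q π ρ) {b : G} (hb : b * z = z * b) (n : ℕ) (v : V) :
    ρ (b ^ n) v = (ρ b)^[n] v := by
  induction n generalizing v with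
  | zero => rw [pow_zero, S.rho_one]; rfl
  | succ n ih =>
    rw [pow_succ, S.rho_mul ((Commute.pow_left hb n).eq) hb, ih, Function.iterate_succ_apply]

/-- An element of odd order fixing a point of the quotient centralises its lifts. -/
theorem comm_of_fix (S : Su z Q π ρ) {b : G} (hb : b * z = z * b) (hodd : Odd (orderOf b)) {x : G}
    (hx : x ∈ Q) (h : ρ b (π x) = π x) : b * x = x * b := by
  rcases S.eq_of_pi (S.conj_mem hb hx) hx (by rw [S.conj b hb x hx, h]) with e | e
  · exact mul_inv_eq_iff_eq_mul.1 e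
  · exfalso
    have hrec : ∀ n : ℕ, b ^ n * x * (b ^ n)⁻¹ = x * z ^ n := by
      intro n
      induction n with
      | zero => simp
      | succ n ih =>
        calc b ^ (n + 1) * x * (b ^ (n + 1))⁻¹ = b ^ n * (b * x * b⁻¹) * (b ^ n)⁻¹ := by
              rw [pow_succ]; group
          _ = b ^ n * x * (b ^ n)⁻¹ * (b ^ n * z * (b ^ n)⁻¹) := by rw [e]; group
          _ = x * z ^ n * z := by rw [ih, S.zpi ((Commute.pow_left hb n).eq)]
          _ = x * z ^ (n + 1) := by rw [pow_succ, mul_assoc]
    have h5 := hrec (orderOf b)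
    rw [pow_orderOf_eq_one, inv_one, mul_one, one_mul, left_eq_mul] at h5
    obtain ⟨k, hk⟩ := hodd
    rw [hk, pow_succ, pow_mul, pow_two, S.loc.sq, one_pow, one_mul] at h5
    exact S.loc.ne_one h5

theorem fix_iff_comm (S : Su z Q π ρ) {b : G} (hb : b * z = z * b) (hodd : Odd (orderOf b)) {x : G}
    (hx : x ∈ Q) : b * x = x * b ↔ ρ b (π x) = π x :=
  ⟨fun h => by rw [← S.conj b hb x hx, mul_inv_eq_iff_eq_mul.2 h], comm_of_fix S hb hodd hx⟩

/-- Change of coordinates by a map in the image. -/
theorem transform (S : Su z Q π ρ) {k k' : V → V} (hk : IsOm k) (hk' : IsOm k')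
    (hl : ∀ x, k' (k x) = x) (hr : ∀ x, k (k' x) = x) :
    Su z Q (fun g => k (π g)) (fun h v => k (ρ h (k' v))) where
  loc := S.loc
  card := S.card
  pi_mul x hx y hy := by rw [S.pi_mul x hx y hy, hk.add]
  pi_eq x hx := by
    rw [← S.pi_eq x hx]
    exact ⟨fun e => hk.inj (e.trans hk.zero.symm), fun e => by rw [e, hk.zero]⟩
  pi_surj v := by
    obtain ⟨x, hx, e⟩ := S.pi_surj (k' v)
    exact ⟨x, hx, by rw [e, hr]⟩
  sq x hx := by rw [hk.q_eq]; exact S.sq x hx
  conj h hh x hx := by rw [hl, S.conj h hh x hx]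
  ker h hh := by
    rw [← S.ker h hh]
    exact ⟨fun e v => hk.inj (by simpa [hl] using e (k v)), fun e v => by rw [e, hr]⟩
  om h hh := hk.comp ((S.om h hh).comp hk')
  lift f hf := by
    obtain ⟨h, hh, e⟩ := S.lift _ (hk'.comp (hf.comp hk))
    exact ⟨h, hh, funext fun v => by rw [e]; simp [hr]⟩

/-- Adapted coordinates. -/
theorem exists_fv (S : Su z Q π ρ) {b : G} (hb5 : orderOf b = 5) (hbz : b * z = z * b)
    (hcard : Nat.card ↥(Q ⊓ centralizer ({b} : Set G)) = 32)
    (hcen : ∀ x ∈ Q ⊓ centralizer ({b} : Set G),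
      (∀ y ∈ Q ⊓ centralizer ({b} : Set G), x * y = y * x) → x = 1 ∨ x = z)
    (hminus : ∀ A : Subgroup G, A ≤ Q ⊓ centralizer ({b} : Set G) → Cfsg.IsElementaryAbelian 2 A →
      Nat.card A ≤ 4) : ∃ π' ρ', Fv z Q π' ρ' b := by
  classical
  have hodd : Odd (orderOf b) := by rw [hb5]; decide
  have hmem : ∀ {x}, x ∈ Q → (x ∈ Q ⊓ centralizer ({b} : Set G) ↔ ρ b (π x) = π x) := fun {x} hx => by
    rw [mem_inf, mem_centralizer_singleton_iff, ← fix_iff_comm S hbz hodd hx]
    exact ⟨fun h => h.2.symm, fun h => ⟨hx, h.symm⟩⟩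
  have hom := S.om b hbz
  obtain ⟨k, hk, hkF⟩ := normal_form (Fx := fun v => ρ b v = v)
    (fun u v hu hv => by simp only [hom.add, hu, hv]) (fun r hr h => by
      obtain ⟨x, hx, rfl⟩ := S.pi_surj r
      refine (S.pi_eq x hx).2 (hcen x ((hmem hx).2 hr) fun y hy => (S.comm_iff hx hy.1).2 ?_)
      exact h _ ((hmem hy.1).1 hy))
    (fun u v hu hv hqu hqv hu0 hv0 huv => by
      obtain ⟨x, hx, rfl⟩ := S.pi_surj u
      obtain ⟨y, hy, rfl⟩ := S.pi_surj v
      by_contra hne
      have hxy := (S.comm_iff hx hy).2 huv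
      have hx2 : x * x = 1 := by rw [S.sq x hx, hqu, zb_zero]
      have hy2 : y * y = 1 := by rw [S.sq y hy, hqv, zb_zero]
      have hzQ : z ∈ Q ⊓ centralizer ({b} : Set G) :=
        ⟨S.loc.mem, mem_centralizer_singleton_iff.2 hbz.symm⟩
      set A := closure ({z, x, y} : Set G) with hA
      have hzA : z ∈ A := subset_closure (by simp)
      have hxA : x ∈ A := subset_closure (by simp)
      have hyA : y ∈ A := subset_closure (by simp)
      haveI hAc : IsMulCommutative A := Subgroup.isMulCommutative_closure (by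
        simp only [Set.mem_insert_iff, Set.mem_singleton_iff]
        rintro p (rfl | rfl | rfl) q (rfl | rfl | rfl)
        exacts [rfl, (S.Qz hx).symm, (S.Qz hy).symm, S.Qz hx, rfl, hxy, S.Qz hy, hxy.symm, rfl])
      have hAe : Cfsg.IsElementaryAbelian 2 A := by
        refine ⟨hAc, fun p hp => ?_⟩
        induction hp using closure_induction with
        | mem q hq =>
          simp only [Set.mem_insert_iff, Set.mem_singleton_iff] at hq
          rw [pow_two]
          rcases hq with rfl | rfl | rfl
          exacts [S.loc.sq, hx2, hy2]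
        | one => simp
        | mul p q hp hq ihp ihq =>
          have hc : Commute p q := congrArg Subtype.val (hAc.is_comm.comm ⟨p, hp⟩ ⟨q, hq⟩)
          rw [hc.mul_pow, ihp, ihq, one_mul]
        | inv p _ ih => rw [inv_pow, ih, inv_one]
      have hle : A ≤ Q ⊓ centralizer ({b} : Set G) := (closure_le _).2 (by
        rintro p (rfl | rfl | rfl)
        exacts [hzQ, (hmem hx).2 hu, (hmem hy).2 hv])
      have h4 := hminus A hle hAe
      have hzb : ∀ {g : G} (c : F), g ∈ A → zb g c ∈ A := fun c hg => by
        rcases F_cases c with h | h <;> rw [h]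
        exacts [by rw [zb_zero]; exact one_mem _, by rwa [zb_one]]
      let f : F × F × F → A := fun c =>
        ⟨zb z c.1 * zb x c.2.1 * zb y c.2.2, mul_mem (mul_mem (hzb _ hzA) (hzb _ hxA)) (hzb _ hyA)⟩
      have hpi : ∀ {g : G} (c : F), g ∈ Q → π (zb g c) = sm c (π g) ∧ zb g c ∈ Q := fun c hg => by
        rcases F_cases c with h | h <;> rw [h]
        exacts [⟨by rw [zb_zero, sm_zero, S.pi_one], by rw [zb_zero]; exact one_mem _⟩,
          ⟨by rw [zb_one, sm_one], by rwa [zb_one]⟩]
      have hf : Function.Injective f := fun c c' e => by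
        have e' : zb z c.1 * zb x c.2.1 * zb y c.2.2 = zb z c'.1 * zb x c'.2.1 * zb y c'.2.2 :=
          congrArg Subtype.val e
        have h := congrArg π e'
        simp only [S.pi_mul _ (mul_mem (hpi _ S.loc.mem).2 (hpi _ hx).2) _ (hpi _ hy).2,
          S.pi_mul _ (hpi _ S.loc.mem).2 _ (hpi _ hx).2, (hpi _ S.loc.mem).1, S.pi_z, (hpi _ hx).1,
          (hpi _ hy).1] at h
        obtain ⟨c1, c2, c3⟩ := c
        obtain ⟨d1, d2, d3⟩ := c'
        have hz0 : ∀ c : F, sm c (0 : V) = 0 := fun c => by
          rcases F_cases c with rfl | rfl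
          exacts [sm_zero _, sm_one _]
        simp only [hz0, zero_add] at h
        have h' : sm (c2 + d2) (π x) + sm (c3 + d3) (π y) = 0 := by
          rw [sm_add, sm_add, add_add_add_comm, h, CoT.add_self]
        have hlin : c2 = d2 ∧ c3 = d3 := by
          rcases F_cases (c2 + d2) with k | k <;> rcases F_cases (c3 + d3) with l | l <;> rw [k, l] at h' <;>
            simp only [sm_zero, sm_one, zero_add, add_zero] at h'
          exacts [⟨F_eq_of_add _ _ k, F_eq_of_add _ _ l⟩, absurd h' hv0, absurd h' hu0,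
            absurd (eq_of_add h') hne]
        obtain ⟨rfl, rfl⟩ := hlin
        have h1 : zb z c1 = zb z d1 := mul_right_cancel (mul_right_cancel e')
        rcases F_cases c1 with rfl | rfl <;> rcases F_cases d1 with rfl | rfl <;>
          simp_all [zb_zero, zb_one, S.loc.ne_one, Ne.symm S.loc.ne_one]
      have h8 := Nat.card_le_card_of_injective f hf
      rw [Nat.card_prod, Nat.card_prod, Nat.card_zmod] at h8
      omega)
    (fun u v => by
      haveI := Fintype.ofFinite G
      by_contra hno
      push Not at hno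
      let P : Finset G := Finset.univ.filter fun x => x ∈ Q ⊓ centralizer ({b} : Set G)
      have hP : P.card = 32 := by rw [← hcard, Nat.card_eq_fintype_card, Fintype.card_subtype]
      have hsub : P.image π ⊆ ({0, u, v, u + v} : Finset V) := fun w hw => by
        simp only [P, Finset.mem_image, Finset.mem_filter, Finset.mem_univ, true_and] at hw
        obtain ⟨x, hx, rfl⟩ := hw
        simp only [Finset.mem_insert, Finset.mem_singleton]
        by_contra h
        simp only [not_or] at h
        exact h.2.2.2 (hno _ ((hmem hx.1).1 hx) h.1 h.2.1 h.2.2.1)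
      have hfib : P.card ≤ 2 * (P.image π).card := by
        refine Finset.card_le_mul_card_image _ 2 fun w hw => ?_
        simp only [P, Finset.mem_image, Finset.mem_filter, Finset.mem_univ, true_and] at hw
        obtain ⟨x, hx, rfl⟩ := hw
        refine (Finset.card_le_card (t := {x, x * z}) fun y hy => ?_).trans Finset.card_le_two
        simp only [P, Finset.mem_filter, Finset.mem_univ, true_and] at hy
        simp only [Finset.mem_insert, Finset.mem_singleton]
        exact S.eq_of_pi hy.1.1 hx.1 hy.2
      have := (Finset.card_le_card hsub).trans Finset.card_le_four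
      omega)
  obtain ⟨k', hk', hl, hr⟩ := hk.inv
  refine ⟨_, _, transform S hk hk' hl hr, hb5, hbz, fun v => ?_⟩
  have h := hkF (k' v)
  rw [hr] at h
  rw [← h]
  exact ⟨fun e => hk.inj (e.trans (hr v).symm), fun e => by rw [e, hr]⟩

end Cfsg.Agent.CoFive
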