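import Cfsg.Agent.Lib.CoT.Moves
import Mathlib.GroupTheory.Perm.Sign

/-!
Two orthogonal elliptic four-spaces in the eight-dimensional hyperbolic space, described by their five
singular vectors; isometries given by permutations of these and their parity.
-/

set_option autoImplicit false
set_option maxRecDepth 20000
set_option synthInstance.maxSize 4000
set_option synthInstance.maxHeartbeats 400000

namespace Cfsg.Agent.CoFive

open Cfsg.Agent.CoT Equiv

local notation "F" => ZMod 2

/-- A combination of the first four vectors. -/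
def comb (s : Fin 5 → V) (a b c d : F) : V := sm a (s 0) + sm b (s 1) + sm c (s 2) + sm d (s 3)

/-- The five singular vectors of an elliptic four-space. -/
structure Pent (s : Fin 5 → V) : Prop where
  qz : ∀ i, q (s i) = 0
  bij : ∀ i j, i ≠ j → bil (s i) (s j) = 1
  sum : s 4 = s 0 + s 1 + s 2 + s 3
  complete : ∀ a b c d : F, q (comb s a b c d) = 0 → comb s a b c d ≠ 0 → ∃ i, comb s a b c d = s i

/-- Orthogonal to the five vectors. -/
def Perp (s : Fin 5 → V) (v : V) : Prop := ∀ i, bil v (s i) = 0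

instance (s : Fin 5 → V) (v : V) : Decidable (Perp s v) := by unfold Perp; infer_instance

/-- In the space of the five vectors. -/
def Span (s : Fin 5 → V) (v : V) : Prop := ∀ w, Perp s w → bil v w = 0

theorem map_zero_of_add {f : V → V} (h : ∀ u v, f (u + v) = f u + f v) : f 0 = 0 :=
  left_eq_add.1 (show f 0 = f 0 + f 0 by rw [← h, add_zero])

theorem map_sm {f : V → V} (h : ∀ u v, f (u + v) = f u + f v) (c : F) (v : V) :
    f (sm c v) = sm c (f v) := by
  rcases F_cases c with rfl | rfl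
  · rw [sm_zero, sm_zero, map_zero_of_add h]
  · rw [sm_one, sm_one]

namespace Pent

variable {s : Fin 5 → V} (P : Pent s)
include P

theorem bil_eq (i j : Fin 5) : bil (s i) (s j) = if i = j then 0 else 1 := by
  split_ifs with h
  · rw [h, bil_self]
  · exact P.bij i j h

theorem ne_zero (i : Fin 5) : s i ≠ 0 := by
  obtain ⟨j, hj⟩ := exists_ne i
  intro e
  have := P.bij i j hj.symm
  rw [e, bil_zero_left] at this
  exact zero_ne_one this

theorem inj : Function.Injective s := fun i j e => by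
  by_contra h
  have := P.bij i j h
  rw [e, bil_self] at this
  exact zero_ne_one this

omit P in
theorem span_self (i : Fin 5) : Span s (s i) := fun w hw => by rw [bil_comm, hw i]

omit P in
theorem span_add {u v : V} (hu : Span s u) (hv : Span s v) : Span s (u + v) := fun w hw => by
  rw [bil_add_left, hu w hw, hv w hw, add_zero]

omit P in
theorem span_sm {u : V} (c : F) (hu : Span s u) : Span s (sm c u) := fun w hw => by
  rw [bil_sm_left, hu w hw, mul_zero]

omit P in
theorem span_comb (a b c d : F) : Span s (comb s a b c d) :=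
  span_add (span_add (span_add (span_sm a (span_self 0)) (span_sm b (span_self 1)))
    (span_sm c (span_self 2))) (span_sm d (span_self 3))

theorem decomp (v : V) : ∃ a b c d w, Perp s w ∧ v = comb s a b c d + w := by
  set B := bil v (s 0) + bil v (s 1) + bil v (s 2) + bil v (s 3) with hB
  refine ⟨B + bil v (s 0), B + bil v (s 1), B + bil v (s 2), B + bil v (s 3), _, ?_,
    (show v = comb s (B + bil v (s 0)) (B + bil v (s 1)) (B + bil v (s 2)) (B + bil v (s 3)) +
      (comb s (B + bil v (s 0)) (B + bil v (s 1)) (B + bil v (s 2)) (B + bil v (s 3)) + v) by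
      rw [← add_assoc, CoT.add_self, zero_add])⟩
  have h4 : ∀ j : Fin 5, j ≠ 4 →
      bil (comb s (B + bil v (s 0)) (B + bil v (s 1)) (B + bil v (s 2)) (B + bil v (s 3)) + v) (s j) = 0 := by
    intro j hj
    simp only [comb, bil_add_left, bil_sm_left, P.bil_eq]
    generalize hk : (0 : F) = k
    fin_cases j <;> simp_all [hB] <;> subst hk <;>
      generalize bil v (s 0) = p0, bil v (s 1) = p1, bil v (s 2) = p2, bil v (s 3) = p3 <;>
      revert p0 p1 p2 p3 <;> decide
  intro j
  by_cases hj : j = 4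
  · subst hj
    rw [P.sum, bil_add_right, bil_add_right, bil_add_right, h4 0 (by decide), h4 1 (by decide),
      h4 2 (by decide), h4 3 (by decide)]
    rfl
  · exact h4 j hj

theorem span_eq {v : V} (hv : Span s v) : ∃ a b c d, v = comb s a b c d := by
  obtain ⟨a, b, c, d, w, hw, e⟩ := P.decomp v
  refine ⟨a, b, c, d, ?_⟩
  have hws : Span s w := by
    have h := span_add hv (span_comb (s := s) a b c d)
    rwa [e, add_comm, ← add_assoc, CoT.add_self, zero_add] at h
  have h0 : w = 0 := bil_nondeg fun u => by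
    obtain ⟨a', b', c', d', w', hw', e'⟩ := P.decomp u
    rw [e', bil_add_right, hws w' hw', add_zero, bil_comm]
    exact span_comb a' b' c' d' w hw
  rw [e, h0, add_zero]

theorem sing_cases {v : V} (hv : Span s v) (hq : q v = 0) (h0 : v ≠ 0) : ∃ i, v = s i := by
  obtain ⟨a, b, c, d, rfl⟩ := P.span_eq hv
  exact P.complete a b c d hq h0

omit P in
theorem map_comb {f : V → V} (hf : ∀ u v, f (u + v) = f u + f v) (a b c d : F) :
    f (comb s a b c d) = comb (fun i => f (s i)) a b c d := by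
  simp only [comb, hf, map_sm hf]

theorem agree {f g : V → V} (hf : ∀ u v, f (u + v) = f u + f v) (hg : ∀ u v, g (u + v) = g u + g v)
    (h : ∀ i, f (s i) = g (s i)) (hw : ∀ w, Perp s w → f w = g w) : f = g := funext fun v => by
  obtain ⟨a, b, c, d, w, hww, rfl⟩ := P.decomp v
  rw [hf, hg, hw w hww, map_comb hf, map_comb hg, funext h]

theorem q_pair {i j : Fin 5} (h : i ≠ j) : q (s i + s j) = 1 := by
  rw [q_add, P.qz, P.qz, P.bij i j h, zero_add, zero_add]

theorem tr_swap {i j : Fin 5} (h : i ≠ j) (k : Fin 5) :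
    tr (s i + s j) (s k) = s (Equiv.swap i j k) := by
  by_cases hki : k = i
  · subst hki
    rw [Equiv.swap_apply_left, tr_move (by rw [bil_add_right, bil_self, P.bij _ _ h, zero_add]),
      ← add_assoc, CoT.add_self, zero_add]
  by_cases hkj : k = j
  · subst hkj
    rw [Equiv.swap_apply_right, tr_move (by rw [bil_add_right, bil_self, P.bij _ _ hki, add_zero]),
      add_left_comm, CoT.add_self, add_zero]
  rw [Equiv.swap_apply_of_ne_of_ne hki hkj,
    tr_fix (by rw [bil_add_right, P.bij _ _ hki, P.bij _ _ hkj, F_add_self])]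

omit P in
theorem tr_perp {i j : Fin 5} {w : V} (hw : Perp s w) : tr (s i + s j) w = w :=
  tr_fix (by rw [bil_add_right, hw i, hw j, add_zero])

theorem exists_perm {f : V → V} (hq : ∀ v, q (f v) = q v) (hb : ∀ u v, bil (f u) (f v) = bil u v)
    (hspan : ∀ i, Span s (f (s i))) : ∃ σ : Perm (Fin 5), ∀ i, f (s i) = s (σ i) := by
  have h : ∀ i, ∃ j, f (s i) = s j := fun i => P.sing_cases (hspan i) (by rw [hq, P.qz]) fun e => by
    obtain ⟨j, hj⟩ := exists_ne i
    have := hb (s i) (s j)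
    rw [e, bil_zero_left, P.bij i j hj.symm] at this
    exact zero_ne_one this
  choose σ hσ using h
  have hinj : Function.Injective σ := fun i j e => by
    by_contra hne
    have := hb (s i) (s j)
    rw [hσ, hσ, e, bil_self, P.bij i j hne] at this
    exact zero_ne_one this
  exact ⟨Equiv.ofBijective σ ⟨hinj, Finite.injective_iff_surjective.1 hinj⟩, hσ⟩

/-- The parity of a permutation. -/
theorem realize {χ : O8 →* Multiplicative F}
    (hχ : ∀ g a, q a = 1 → app g = tr a → χ g = Multiplicative.ofAdd 1) (σ : Perm (Fin 5)) :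
    ∃ g : O8, (∀ i, app g (s i) = s (σ i)) ∧ (∀ w, Perp s w → app g w = w) ∧
      χ g = if Perm.sign σ = 1 then 1 else Multiplicative.ofAdd 1 := by
  induction σ using Equiv.Perm.swap_induction_on with
  | one => exact ⟨1, fun i => app_one _, fun w _ => app_one _, by simp⟩
  | swap_mul σ i j hij ih =>
    obtain ⟨g, h1, h2, h3⟩ := ih
    obtain ⟨t, ht⟩ := exists_tr (P.q_pair hij)
    refine ⟨t * g, fun k => ?_, fun w hw => ?_, ?_⟩
    · rw [app_mul, h1, ht, P.tr_swap hij]; rfl
    · rw [app_mul, h2 w hw, ht, tr_perp hw]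
    · rw [map_mul, h3, hχ t _ (P.q_pair hij) ht, Perm.sign_mul, Perm.sign_swap hij]
      rcases Int.units_eq_one_or (Perm.sign σ) with e | e <;> rw [e] <;> decide

end Pent

/-- Two orthogonal elliptic four-spaces filling the space. -/
structure Two (s t : Fin 5 → V) : Prop where
  left : Pent s
  right : Pent t
  orth : ∀ i j, bil (s i) (t j) = 0
  total : ∀ w, Perp s w → Perp t w → w = 0

namespace Two

variable {s t : Fin 5 → V} (T : Two s t)
include T

theorem symm : Two t s :=
  ⟨T.right, T.left, fun i j => by rw [bil_comm, T.orth], fun w h h' => T.total w h' h⟩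

theorem perp_self (i : Fin 5) : Perp t (s i) := fun j => T.orth i j

theorem perp_of_span {v : V} (hv : Span s v) : Perp t v := fun j => hv _ (T.symm.perp_self j)

theorem perp_iff {v : V} : Perp t v ↔ Span s v := by
  refine ⟨fun h => ?_, T.perp_of_span⟩
  obtain ⟨a, b, c, d, w, hw, e⟩ := T.left.decomp v
  have hw' : Perp t w := fun j => by
    have h1 := h j
    rwa [e, bil_add_left, (T.perp_of_span (Pent.span_comb a b c d)) j, zero_add] at h1
  rw [T.total w hw hw', add_zero] at e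
  exact e ▸ Pent.span_comb a b c d

theorem ext {f g : V → V} (hf : ∀ u v, f (u + v) = f u + f v) (hg : ∀ u v, g (u + v) = g u + g v)
    (h : ∀ i, f (s i) = g (s i)) (h' : ∀ i, f (t i) = g (t i)) : f = g :=
  T.left.agree hf hg h fun w hw => by
    obtain ⟨a, b, c, d, rfl⟩ := T.right.span_eq (T.symm.perp_iff.1 hw)
    rw [Pent.map_comb hf, Pent.map_comb hg, funext h']

theorem realize (σ τ : Perm (Fin 5)) : ∃ g : O8, (∀ i, app g (s i) = s (σ i)) ∧
    (∀ i, app g (t i) = t (τ i)) ∧ (g ∈ Om ↔ Perm.sign σ = Perm.sign τ) := by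
  obtain ⟨χ, hker, hχ⟩ := exists_parity
  obtain ⟨g, g1, g2, g3⟩ := T.left.realize hχ σ
  obtain ⟨h, h1, h2, h3⟩ := T.right.realize hχ τ
  refine ⟨g * h, fun i => ?_, fun i => ?_, ?_⟩
  · rw [app_mul, h2 _ (T.perp_self i), g1]
  · rw [app_mul, h1, g2 _ (T.symm.perp_self _)]
  · rw [hker, map_mul, g3, h3]
    rcases Int.units_eq_one_or (Perm.sign σ) with e | e <;>
      rcases Int.units_eq_one_or (Perm.sign τ) with e' | e' <;> rw [e, e'] <;> decide

/-- Permutations of the same parity are induced. -/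
theorem exists_om (σ τ : Perm (Fin 5)) (h : Perm.sign σ = Perm.sign τ) :
    ∃ f, IsOm f ∧ (∀ i, f (s i) = s (σ i)) ∧ ∀ i, f (t i) = t (τ i) := by
  obtain ⟨g, g1, g2, g3⟩ := T.realize σ τ
  exact ⟨app g, ⟨g, g3.2 h, rfl⟩, g1, g2⟩

/-- Induced permutations have the same parity. -/
theorem sign_eq {f : V → V} (hf : IsOm f) {σ τ : Perm (Fin 5)} (h : ∀ i, f (s i) = s (σ i))
    (h' : ∀ i, f (t i) = t (τ i)) : Perm.sign σ = Perm.sign τ := by
  obtain ⟨g, g1, g2, g3⟩ := T.realize σ τ
  obtain ⟨k, hk, rfl⟩ := hf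
  refine g3.1 ?_
  rw [← app_inj (T.ext (app_add k) (app_add g) (fun i => (h i).trans (g1 i).symm)
    fun i => (h' i).trans (g2 i).symm)]
  exact hk

end Two

/-- The five singular vectors of the standard elliptic four-space. -/
def sv : Fin 5 → V := ![e0, f0, e0 + f0 + a0, e0 + f0 + v0, e0 + f0 + (a0 + v0)]

/-- The five singular vectors of its orthogonal. -/
def tv : Fin 5 → V :=
  ![e3, f3, e3 + f3 + (e2 + f2), e3 + f3 + (e1 + f1 + e2), e3 + f3 + (e1 + f1 + f2)]

theorem pent_sv : Pent sv := ⟨by decide +kernel, by decide +kernel, by decide +kernel, by decide +kernel⟩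

theorem pent_tv : Pent tv := ⟨by decide +kernel, by decide +kernel, by decide +kernel, by decide +kernel⟩

theorem two_std : Two sv tv := ⟨pent_sv, pent_tv, by decide +kernel, by decide +kernel⟩

/-- Five-cycles: transitivity and an odd element squaring. -/
theorem five_cycle : ∀ τ : Perm (Fin 5), τ ^ 5 = 1 → (∀ a, τ a ≠ a) →
    (∀ a b : Fin 5, ∃ i : Fin 5, (τ ^ (i : ℕ)) a = b) ∧
      ∃ σ : Perm (Fin 5), Perm.sign σ = -1 ∧ σ * τ = τ ^ 2 * σ := by
  decide +kernel

theorem five_odd : ∀ τ : Perm (Fin 5), τ ^ 5 = 1 → Perm.sign τ = 1 := by decide +kernel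

theorem fix_twelve : ∀ σ : Perm (Fin 5), σ 0 = 0 → σ ^ 12 = 1 := by decide +kernel

/-- An elliptic four-space moves to the standard one. -/
theorem normal_form {Fx : V → Prop} (hadd : ∀ u v, Fx u → Fx v → Fx (u + v))
    (hnd : ∀ r, Fx r → (∀ u, Fx u → bil r u = 0) → r = 0)
    (hell : ∀ u v, Fx u → Fx v → q u = 0 → q v = 0 → u ≠ 0 → v ≠ 0 → bil u v = 0 → u = v)
    (hbig : ∀ u v : V, ∃ w, Fx w ∧ w ≠ 0 ∧ w ≠ u ∧ w ≠ v ∧ w ≠ u + v) :
    ∃ k, IsOm k ∧ ∀ v, Fx v ↔ Perp tv (k v) := by
  obtain ⟨e, he, heq, he0⟩ : ∃ e, Fx e ∧ q e = 0 ∧ e ≠ 0 := by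
    by_contra hno
    push Not at hno
    have h1 : ∀ u, Fx u → u ≠ 0 → q u = 1 := fun u hu h0 =>
      (F_cases _).resolve_left fun hq => h0 (hno u hu hq)
    have hb : ∀ u v, Fx u → Fx v → u ≠ 0 → v ≠ 0 → u ≠ v → bil u v = 1 := by
      intro u v hu hv u0 v0 hne
      have h := h1 _ (hadd u v hu hv) fun e => hne (eq_of_add e)
      rw [q_add, h1 u hu u0, h1 v hv v0] at h
      revert h; generalize bil u v = c; revert c; decide
    obtain ⟨u, hu, u0, -⟩ := hbig 0 0
    obtain ⟨v, hv, v0, vu, -⟩ := hbig u 0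
    obtain ⟨w, hw, w0, wu, wv, wuv⟩ := hbig u v
    have h := hb u (v + w) hu (hadd v w hv hw) u0 (fun e => wv (eq_of_add e).symm) fun e =>
      wuv (by rw [e, add_comm v w, add_cancel])
    rw [bil_add_right, hb u v hu hv u0 v0 vu.symm, hb u w hu hw u0 w0 wu.symm, F_add_self] at h
    exact zero_ne_one h
  have h0 : Fx 0 := by simpa [CoT.add_self] using hadd e e he he
  obtain ⟨f₁, hf₁, hef₁⟩ : ∃ f, Fx f ∧ bil e f = 1 := by
    by_contra hno
    push Not at hno
    exact he0 (hnd e he fun u hu => (F_cases _).resolve_right (hno u hu))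
  obtain ⟨f, hf, hef, hfq⟩ : ∃ f, Fx f ∧ bil e f = 1 ∧ q f = 0 := by
    rcases F_cases (q f₁) with h | h
    · exact ⟨f₁, hf₁, hef₁, h⟩
    · exact ⟨f₁ + e, hadd _ _ hf₁ he, by rw [bil_add_right, hef₁, bil_self, add_zero],
        by rw [q_add, h, heq, bil_comm, hef₁]; decide⟩
  -- projecting to the orthogonal of the hyperbolic pair
  let p : V → V := fun u => u + sm (bil u f) e + sm (bil u e) f
  have hp : ∀ u, Fx u → Fx (p u) ∧ bil (p u) e = 0 ∧ bil (p u) f = 0 := by
    intro u hu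
    refine ⟨hadd _ _ (hadd _ _ hu ?_) ?_, ?_, ?_⟩
    · rcases F_cases (bil u f) with h | h <;> rw [h]
      exacts [by rwa [sm_zero], by rwa [sm_one]]
    · rcases F_cases (bil u e) with h | h <;> rw [h]
      exacts [by rwa [sm_zero], by rwa [sm_one]]
    · show bil (u + sm (bil u f) e + sm (bil u e) f) e = 0
      rw [bil_add_left, bil_add_left, bil_sm_left, bil_sm_left, bil_self, bil_comm f e, hef, mul_zero,
        mul_one, add_zero, F_add_self]
    · show bil (u + sm (bil u f) e + sm (bil u e) f) f = 0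
      rw [bil_add_left, bil_add_left, bil_sm_left, bil_sm_left, bil_self, hef, mul_zero, mul_one,
        add_zero, F_add_self]
  have hP1 : ∀ u, Fx u → bil u e = 0 → bil u f = 0 → u ≠ 0 → q u = 1 := by
    intro u hu hue huf h0
    refine (F_cases _).resolve_left fun hq => ?_
    have := hell u e hu he hq heq h0 he0 hue
    rw [this, hef] at huf
    exact one_ne_zero huf
  obtain ⟨u, hu, u0, ue, uf, uef⟩ := hbig e f
  obtain ⟨hpu, pue, puf⟩ := hp u hu
  have pu0 : p u ≠ 0 := by
    intro h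
    have e' : u = sm (bil u f) e + sm (bil u e) f := eq_of_add (by rw [← add_assoc]; exact h)
    rcases F_cases (bil u f) with a | a <;> rcases F_cases (bil u e) with b | b <;>
      rw [a, b] at e' <;> simp only [sm_zero, sm_one, add_zero, zero_add] at e'
    exacts [u0 e', uf e', ue e', uef e']
  set a := p u with ha
  obtain ⟨v₁, hv₁, hav₁⟩ : ∃ v, Fx v ∧ bil a v = 1 := by
    by_contra hno
    push Not at hno
    exact pu0 (hnd a hpu fun w hw => (F_cases _).resolve_right (hno w hw))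
  obtain ⟨hv, hve, hvf⟩ := hp v₁ hv₁
  set v := p v₁ with hvdef
  have hav : bil a v = 1 := by
    show bil a (v₁ + sm (bil v₁ f) e + sm (bil v₁ e) f) = 1
    rw [bil_add_right, bil_add_right, bil_sm_right, bil_sm_right, pue, puf, mul_zero, mul_zero,
      add_zero, add_zero, hav₁]
  have v0' : v ≠ 0 := fun h => by rw [h, bil_zero_right] at hav; exact zero_ne_one hav
  have qa := hP1 a hpu pue puf pu0
  have qv := hP1 v hv hve hvf v0'
  -- move
  obtain ⟨k₁, hk₁, hk₁e⟩ := move_e0 heq he0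
  obtain ⟨k₂, hk₂, k₂e, k₂a, k₂v⟩ := move_apair (a := k₁ a) (v := k₁ v) (by rw [hk₁.q_eq, qa])
    (by rw [← hk₁e, hk₁.bil_eq, pue]) (by rw [hk₁.q_eq, qv]) (by rw [← hk₁e, hk₁.bil_eq, hve])
    (by rw [hk₁.bil_eq, hav])
  have hK : IsOm (fun x => k₂ (k₁ x)) := hk₂.comp hk₁
  set w := k₂ (k₁ f) + f0 with hw
  have bK : ∀ x y, bil (k₂ (k₁ x)) (k₂ (k₁ y)) = bil x y := hK.bil_eq
  have hg : q (k₂ (k₁ f)) = 0 ∧ bil (k₂ (k₁ f)) e0 = 1 ∧ bil (k₂ (k₁ f)) a0 = 0 ∧
      bil (k₂ (k₁ f)) v0 = 0 := by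
    refine ⟨by rw [hK.q_eq f, hfq], ?_, ?_, ?_⟩
    · rw [← k₂e, ← hk₁e, bK, bil_comm, hef]
    · rw [← k₂a, bK, bil_comm, puf]
    · rw [← k₂v, bK, bil_comm, hvf]
  set g := k₂ (k₁ f) with hgdef
  have fin : ∀ g : V, q g = 0 → bil g e0 = 1 → bil g a0 = 0 → bil g v0 = 0 →
      ∃ w, bil w e0 = 0 ∧ sg e0 w e0 = e0 ∧ sg e0 w a0 = a0 ∧ sg e0 w v0 = v0 ∧ sg e0 w g = f0 := by
    decide +kernel
  obtain ⟨w', hw'0, s1, s2, s3, s4⟩ := fin g hg.1 hg.2.1 hg.2.2.1 hg.2.2.2
  have hk : IsOm (fun x => sg e0 w' (k₂ (k₁ x))) := (isOm_sg base_facts.1 hw'0).comp hK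
  refine ⟨_, hk, fun x => ⟨fun hx => ?_, fun hx => ?_⟩⟩
  · obtain ⟨hy, hye, hyf⟩ := hp x hx
    obtain ⟨y, hyp⟩ : ∃ y, p x = y := ⟨_, rfl⟩
    rw [hyp] at hy hye hyf
    have hy2 : ∃ i j : F, y = sm i a + sm j v := by
      refine ⟨bil y v, bil y a, ?_⟩
      set r := y + (sm (bil y v) a + sm (bil y a) v) with hr
      have hr1 : Fx r := by
        refine hadd _ _ hy (hadd _ _ ?_ ?_)
        · rcases F_cases (bil y v) with h | h <;> rw [h]
          exacts [by rwa [sm_zero], by rwa [sm_one]]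
        · rcases F_cases (bil y a) with h | h <;> rw [h]
          exacts [by rwa [sm_zero], by rwa [sm_one]]
      have hre : bil r e = 0 := by
        rw [hr, bil_add_left, bil_add_left, bil_sm_left, bil_sm_left, hye, pue, hve]; simp
      have hrf : bil r f = 0 := by
        rw [hr, bil_add_left, bil_add_left, bil_sm_left, bil_sm_left, hyf, puf, hvf]; simp
      have hra : bil r a = 0 := by
        rw [hr, bil_add_left, bil_add_left, bil_sm_left, bil_sm_left, bil_self, bil_comm v a, hav,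
          mul_zero, mul_one, zero_add, F_add_self]
      have hr0 : r = 0 := by
        by_contra h
        have h1 := hP1 r hr1 hre hrf h
        have hq : q (r + a) = 0 := by rw [q_add, h1, qa, hra]; decide
        by_cases hra0 : r + a = 0
        · have hrv : bil r v = 0 := by
            rw [hr, bil_add_left, bil_add_left, bil_sm_left, bil_sm_left, bil_self, hav, mul_one,
              mul_zero, add_zero, F_add_self]
          rw [eq_of_add hra0, hav] at hrv
          exact one_ne_zero hrv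
        · have := hell _ e (hadd _ _ hr1 hpu) he hq heq hra0 he0
            (by rw [bil_add_left, hre, pue, add_zero])
          have h2 : bil (r + a) f = 0 := by rw [bil_add_left, hrf, puf, add_zero]
          rw [this, hef] at h2
          exact one_ne_zero h2
      exact eq_of_add hr0
    obtain ⟨i, j, hij⟩ := hy2
    have hx' : x = sm i a + sm j v + (sm (bil x f) e + sm (bil x e) f) := by
      rw [← hij, ← hyp]
      show x = x + sm (bil x f) e + sm (bil x e) f + (sm (bil x f) e + sm (bil x e) f)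
      rw [add_assoc x, add_cancel]
    rw [hx']
    simp only [hk.add, hk.sm]
    show Perp tv (sm i (sg e0 w' (k₂ (k₁ a))) + sm j (sg e0 w' (k₂ (k₁ v))) +
      (sm (bil x f) (sg e0 w' (k₂ (k₁ e))) + sm (bil x e) (sg e0 w' (k₂ (k₁ f)))))
    rw [k₂a, k₂v, hk₁e, k₂e, ← hgdef, s1, s2, s3, s4]
    have hb : ∀ j, bil a0 (tv j) = 0 ∧ bil v0 (tv j) = 0 ∧ bil e0 (tv j) = 0 ∧ bil f0 (tv j) = 0 := by
      decide +kernel
    intro l
    obtain ⟨b1, b2, b3, b4⟩ := hb l
    simp [bil_add_left, bil_sm_left, b1, b2, b3, b4]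
  · obtain ⟨i, j, l, m, e'⟩ := two_std.left.span_eq (two_std.perp_iff.1 hx)
    have hmem : ∀ n, ∃ y, Fx y ∧ sg e0 w' (k₂ (k₁ y)) = sv n := by
      have A : ∀ {u v : V}, (∃ y, Fx y ∧ sg e0 w' (k₂ (k₁ y)) = u) →
          (∃ y, Fx y ∧ sg e0 w' (k₂ (k₁ y)) = v) → ∃ y, Fx y ∧ sg e0 w' (k₂ (k₁ y)) = u + v := by
        rintro _ _ ⟨y, hy, rfl⟩ ⟨y', hy', rfl⟩
        exact ⟨y + y', hadd _ _ hy hy', hk.add y y'⟩
      have E0 : ∃ y, Fx y ∧ sg e0 w' (k₂ (k₁ y)) = e0 := ⟨e, he, by rw [hk₁e, k₂e, s1]⟩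
      have F0 : ∃ y, Fx y ∧ sg e0 w' (k₂ (k₁ y)) = f0 := ⟨f, hf, by rw [← hgdef, s4]⟩
      have A0 : ∃ y, Fx y ∧ sg e0 w' (k₂ (k₁ y)) = a0 := ⟨a, hpu, by rw [k₂a, s2]⟩
      have V0 : ∃ y, Fx y ∧ sg e0 w' (k₂ (k₁ y)) = v0 := ⟨v, hv, by rw [k₂v, s3]⟩
      intro n
      fin_cases n
      exacts [E0, F0, A (A E0 F0) A0, A (A E0 F0) V0, A (A E0 F0) (A A0 V0)]
    choose y hy hye using hmem
    have hF : ∀ (c : F) n, Fx (sm c (y n)) := fun c n => by
      rcases F_cases c with h | h <;> rw [h]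
      exacts [by rwa [sm_zero], by rw [sm_one]; exact hy n]
    have he2 : x = comb y i j l m := hk.inj (f := fun x => sg e0 w' (k₂ (k₁ x))) (by
      show sg e0 w' (k₂ (k₁ x)) = _
      rw [Pent.map_comb (f := fun x => sg e0 w' (k₂ (k₁ x))) hk.add, e', funext hye])
    rw [he2]
    exact hadd _ _ (hadd _ _ (hadd _ _ (hF i 0) (hF j 1)) (hF l 2)) (hF m 3)

end Cfsg.Agent.CoFive
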