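import Cfsg.Agent.Lib.CoFive.Inside
import Cfsg.Agent.Lib.CoT.Pairing

/-!
An element centralising `β` and exchanging the central involution with a fixed conjugate in the
extraspecial subgroup.
-/

set_option autoImplicit false
set_option linter.style.haveILetI false
set_option linter.unusedSectionVars false
set_option maxRecDepth 20000
set_option synthInstance.maxSize 4000
set_option synthInstance.maxHeartbeats 400000

open scoped Pointwise

namespace Cfsg.Agent.CoFive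

open Cfsg.Agent.CoT Equiv Subgroup

variable {G : Type*} [Group G] [Finite G]

/-- Elements of order five in one coset of a normalised subgroup of coprime order are conjugate. -/
theorem five_conj {R : Subgroup G} {b c : G} (hR : (Nat.card R).Coprime 5) (hb : orderOf b = 5)
    (hn : ∀ r ∈ R, b * r * b⁻¹ ∈ R) (hc : c * b⁻¹ ∈ R) (hc5 : orderOf c = 5) :
    ∃ r ∈ R, r * c * r⁻¹ = b := by
  classical
  haveI : Fact (Nat.Prime 5) := ⟨by norm_num⟩
  have hdisj : ∀ x ∈ R, x ^ 5 = 1 → x = 1 := fun x hx h5 => eq_one_of_pow (m := Nat.card R) (n := 5)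
    (congrArg Subtype.val (pow_card_eq_one' (x := (⟨x, hx⟩ : R)))) h5 hR
  have hzn : zpowers b ≤ normalizer (R : Set G) := by
    rw [zpowers_le]
    refine Subgroup.mem_normalizer_iff_map_conj_eq.2 (Subgroup.eq_of_le_of_card_ge ?_
      (Nat.card_congr (R.equivMapOfInjective _ (MulAut.conj b).injective).toEquiv).le)
    rintro _ ⟨r, hr, rfl⟩
    exact hn r hr
  set H := R ⊔ zpowers b with hH
  have hHset : (H : Set G) = (R : Set G) * (zpowers b : Set G) :=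
    coe_mul_of_right_le_normalizer_left R (zpowers b) hzn
  have hcardH : Nat.card H = Nat.card R * 5 := by
    let f : R × zpowers b → H := fun w => ⟨(w.1 : G) * w.2,
      mul_mem (mem_sup_left w.1.2) (mem_sup_right w.2.2)⟩
    have hf : Function.Bijective f := by
      constructor
      · rintro ⟨⟨r, hr⟩, ⟨u, hu⟩⟩ ⟨⟨r', hr'⟩, ⟨u', hu'⟩⟩ e
        have e' : r * u = r' * u' := congrArg Subtype.val e
        have h1 : r'⁻¹ * r = u' * u⁻¹ := by
          rw [eq_mul_inv_iff_mul_eq, mul_assoc, e', inv_mul_cancel_left]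
        have h2 : u' * u⁻¹ = 1 := hdisj _ (h1 ▸ mul_mem (inv_mem hr') hr) (by
          obtain ⟨i, hi⟩ := mem_zpowers_iff.1 (mul_mem hu' (inv_mem hu))
          rw [← hi, ← zpow_natCast, ← zpow_mul, mul_comm, zpow_mul, zpow_natCast, ← hb,
            pow_orderOf_eq_one, one_zpow])
        have hu'' : u = u' := (mul_inv_eq_one.1 h2).symm
        subst hu''
        have hr'' : r = r' := mul_right_cancel e'
        subst hr''
        rfl
      · rintro ⟨x, hx⟩
        have hx' : x ∈ (H : Set G) := hx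
        rw [hHset] at hx'
        obtain ⟨r, hr, u, hu, rfl⟩ := hx'
        exact ⟨(⟨r, hr⟩, ⟨u, hu⟩), rfl⟩
    rw [← Nat.card_eq_of_bijective f hf, Nat.card_prod, Nat.card_zpowers, hb]
  have hcH : c ∈ H := by
    have := mul_mem (mem_sup_left (T := zpowers b) hc) (mem_sup_right (S := R) (mem_zpowers b))
    rwa [inv_mul_cancel_right] at this
  have hfac : 5 ^ (Nat.card H).factorization 5 = 5 := by
    rw [hcardH, Nat.factorization_mul Nat.card_pos.ne' (by norm_num), Finsupp.add_apply,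
      Nat.factorization_eq_zero_of_not_dvd (fun h => by
        have := Nat.eq_one_of_dvd_coprimes hR h dvd_rfl; omega),
      Nat.Prime.factorization_self (by norm_num), zero_add, pow_one]
  have hB : b ∈ H := mem_sup_right (mem_zpowers b)
  let Pb : Sylow 5 H := Sylow.ofCard (zpowers (⟨b, hB⟩ : H)) (by
    rw [Nat.card_zpowers, Subgroup.orderOf_mk, hb, hfac])
  let Pc : Sylow 5 H := Sylow.ofCard (zpowers (⟨c, hcH⟩ : H)) (by
    rw [Nat.card_zpowers, Subgroup.orderOf_mk, hc5, hfac])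
  obtain ⟨⟨k, hk⟩, e⟩ := MulAction.exists_smul_eq H Pc Pb
  have hmem : (⟨k, hk⟩ * ⟨c, hcH⟩ * ⟨k, hk⟩⁻¹ : H) ∈ zpowers (⟨b, hB⟩ : H) := by
    show _ ∈ ((Pb : Sylow 5 H) : Subgroup H)
    rw [← e]
    exact Subgroup.smul_mem_pointwise_smul _ _ _ (mem_zpowers (⟨c, hcH⟩ : H))
  obtain ⟨i, hi⟩ := mem_zpowers_iff.1 hmem
  have hi' : b ^ i = k * c * k⁻¹ := by simpa using congrArg Subtype.val hi
  obtain ⟨r, hr, u, hu, hru⟩ : k ∈ (R : Set G) * (zpowers b : Set G) := hHset ▸ hk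
  obtain ⟨j, rfl⟩ := mem_zpowers_iff.1 hu
  have hru' : r * b ^ j = k := hru
  set r' := b ^ (-j) * r * b ^ j with hr'
  have hr'R : r' ∈ R := by
    have := (Subgroup.mem_normalizer_iff.1 (hzn (zpow_mem_zpowers b (-j))) r).1 hr
    rwa [← zpow_neg, neg_neg] at this
  have e1 : r' * c * r'⁻¹ = b ^ i := by
    calc r' * c * r'⁻¹ = b ^ (-j) * (r * b ^ j * c * (r * b ^ j)⁻¹) * b ^ j := by rw [hr']; group
      _ = b ^ (-j) * b ^ i * b ^ j := by rw [hru', ← hi']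
      _ = b ^ i := by rw [← zpow_add, ← zpow_add]; congr 1; ring
  refine ⟨r', hr'R, ?_⟩
  have h3 : b ^ i * b⁻¹ ∈ R := by
    have h4 : b * r'⁻¹ * b⁻¹ ∈ R := hn _ (inv_mem hr'R)
    have := mul_mem (mul_mem hr'R hc) h4
    rwa [← e1, show r' * c * r'⁻¹ * b⁻¹ = r' * (c * b⁻¹) * (b * r'⁻¹ * b⁻¹) by group]
  have h5 : b ^ i * b⁻¹ = 1 := hdisj _ h3 (by
    rw [← zpow_sub_one, ← zpow_natCast, ← zpow_mul, mul_comm, zpow_mul, zpow_natCast, ← hb,
      pow_orderOf_eq_one, one_zpow])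
  rw [e1]; exact mul_inv_eq_one.1 h5

theorem exp_cases : ∀ j : Fin 5, j ≠ 0 → ∃ i : Fin 4, (j : ℕ) * 2 ^ (i : ℕ) % 5 = 1 := by decide

theorem swap_fix : Perm.sign (Equiv.swap (1 : Fin 5) 2) = -1 ∧ Equiv.swap (1 : Fin 5) 2 0 = 0 := by
  decide

theorem sv_zero : sv 0 = e0 := rfl

variable {z : G} {Q : Subgroup G} {π : G → V} {ρ : G → V → V} {β : G}

theorem coprime_Q (S : Su z Q π ρ) {R : Subgroup G} (h : R ≤ Q) : (Nat.card R).Coprime 5 :=
  Nat.Coprime.coprime_dvd_left (S.card ▸ Subgroup.card_dvd_of_le h) (by norm_num)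

namespace Fv

variable (Z : Fv z Q π ρ β)
include Z

/-- An element exchanging `z` and `s` and squaring `β`. -/
theorem exists_square {s g : G} (X : Fr z Q π ρ s g) (hs : π s = sv 0) :
    ∃ h, h * z = z * h ∧ h * s = s * h ∧ h * β * h⁻¹ = β ^ 2 := by
  obtain ⟨τ, h5, hfix, hpow⟩ := Z.exists_tau
  obtain ⟨σ, hσ, hστ⟩ := (five_cycle τ h5 hfix).2
  obtain ⟨f, hf, f1, f2⟩ := two_std.exists_om (Equiv.swap 1 2) σ (by rw [swap_fix.1, hσ])
  obtain ⟨c, hcz, hcs, hρ⟩ := X.lift_fix hf (by rw [hs, f1, swap_fix.2])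
  have hsQ : s ∈ U Q π tv := (mem_U Z.S).2 ⟨X.sQ, by rw [hs]; exact two_std.perp_self 0⟩
  have hβs : β * s = s * β := (Z.mem_fix X.sQ).2 hsQ
  have hb2z := Z.beta_z 2
  have hb2s : β ^ 2 * s = s * β ^ 2 := (Commute.pow_left hβs 2).eq
  have hcbz : c * β * z = z * (c * β) := Z.S.comm_mul hcz Z.hz
  have h1z : c * β * c⁻¹ * z = z * (c * β * c⁻¹) := Z.S.comm_mul hcbz (Z.S.comm_inv hcz)
  have h1s : c * β * c⁻¹ * s = s * (c * β * c⁻¹) :=
    (((show Commute c s from hcs).mul_left hβs).mul_left (Commute.inv_left hcs)).eq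
  have hdz : c * β * c⁻¹ * (β ^ 2)⁻¹ * z = z * (c * β * c⁻¹ * (β ^ 2)⁻¹) :=
    Z.S.comm_mul h1z (Z.S.comm_inv hb2z)
  have hρd : ∀ v, ρ c (ρ β v) = ρ (β ^ 2) (ρ c v) := fun v => congrFun (two_std.ext
    (f := fun v => ρ c (ρ β v)) (g := fun v => ρ (β ^ 2) (ρ c v))
    (fun u w => by simp only [Z.S.rho_add Z.hz, Z.S.rho_add hcz])
    (fun u w => by simp only [Z.S.rho_add hcz, Z.S.rho_add hb2z])
    (fun i => by
      have hb : ∀ j, ρ (β ^ 2) (sv j) = sv j := fun j => by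
        rw [rho_pow Z.S Z.hz, Function.iterate_fixed (Z.beta_sv j)]
      simp only [Z.beta_sv, hρ, f1, hb])
    (fun i => by
      have h1 := hpow 1 i
      rw [pow_one, pow_one] at h1
      simp only [h1, hρ, f2, hpow]
      rw [← Perm.mul_apply, ← Perm.mul_apply, hστ])) v
  have hdQ : c * β * c⁻¹ * (β ^ 2)⁻¹ ∈ Q := (Z.S.ker _ hdz).1 fun v => by
    rw [Z.S.rho_mul h1z (Z.S.comm_inv hb2z), Z.S.rho_mul hcbz (Z.S.comm_inv hcz),
      Z.S.rho_mul hcz Z.hz, hρd, ← Z.S.rho_mul hcz (Z.S.comm_inv hcz), mul_inv_cancel, Z.S.rho_one,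
      ← Z.S.rho_mul hb2z (Z.S.comm_inv hb2z), mul_inv_cancel, Z.S.rho_one]
  set R := Q ⊓ centralizer ({s} : Set G) with hR
  have hdR : c * β * c⁻¹ * (β ^ 2)⁻¹ ∈ R :=
    ⟨hdQ, mem_centralizer_singleton_iff.2 ((show Commute (c * β * c⁻¹) s from h1s).mul_left
      (Commute.inv_left hb2s)).eq⟩
  haveI : Fact (Nat.Prime 5) := ⟨by norm_num⟩
  have hne : β ^ 2 ≠ 1 := fun e => by
    have := orderOf_dvd_of_pow_eq_one e
    rw [Z.five] at this
    norm_num at this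
  obtain ⟨r, hr, e⟩ := five_conj (R := R) (b := β ^ 2) (coprime_Q Z.S inf_le_left)
    (orderOf_eq_prime (by rw [← pow_mul, mul_comm, pow_mul, Z.beta_pow_five, one_pow]) hne)
    (fun x hx => ⟨Z.S.conj_mem hb2z hx.1, mem_centralizer_singleton_iff.2
      (((show Commute (β ^ 2) s from hb2s).mul_left
        (mem_centralizer_singleton_iff.1 hx.2)).mul_left (Commute.inv_left hb2s)).eq⟩)
    hdR (by rw [show c * β * c⁻¹ = MulAut.conj c β by rfl, MulEquiv.orderOf_eq, Z.five])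
  refine ⟨r * c, Z.S.comm_mul (Z.S.Qz hr.1) hcz,
    ((show Commute r s from mem_centralizer_singleton_iff.1 hr.2).mul_left hcs).eq, ?_⟩
  rw [← e]; group

/-- An element centralising `β` that exchanges `z` and `s`. -/
theorem exists_n {s g : G} (X : Fr z Q π ρ s g) (hs : π s = sv 0) :
    ∃ n, n * β = β * n ∧ n * z * n⁻¹ = s ∧ n * s * n⁻¹ = z := by
  classical
  haveI : Fact (Nat.Prime 5) := ⟨by norm_num⟩
  obtain ⟨w, hw1, hw2⟩ := X.exists_swap
  obtain ⟨h, hhz, hhs, hh⟩ := Z.exists_square X hs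
  set C := centralizer ({z} : Set G) ⊓ centralizer ({s} : Set G) with hC
  have hsQ : s ∈ U Q π tv := (mem_U Z.S).2 ⟨X.sQ, by rw [hs]; exact two_std.perp_self 0⟩
  have hβC : β ∈ C := ⟨mem_centralizer_singleton_iff.2 Z.hz,
    mem_centralizer_singleton_iff.2 ((Z.mem_fix X.sQ).2 hsQ)⟩
  have hγC : w⁻¹ * β * w ∈ C := by
    constructor
    · refine mem_centralizer_singleton_iff.2 ?_
      have h1 := mem_centralizer_singleton_iff.1 hβC.2
      rw [← hw1] at h1
      calc w⁻¹ * β * w * z = w⁻¹ * (β * (w * z * w⁻¹)) * w := by group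
        _ = w⁻¹ * (w * z * w⁻¹ * β) * w := by rw [h1]
        _ = _ := by group
    · refine mem_centralizer_singleton_iff.2 ?_
      have h1 := mem_centralizer_singleton_iff.1 hβC.1
      rw [← hw2] at h1
      calc w⁻¹ * β * w * s = w⁻¹ * (β * (w * s * w⁻¹)) * w := by group
        _ = w⁻¹ * (w * s * w⁻¹ * β) * w := by rw [h1]
        _ = _ := by group
  -- the Sylow subgroup of the common centraliser
  obtain ⟨R₁, hR₁⟩ := (IsPGroup.of_card (p := 5) (n := 1) (G := zpowers (⟨β, hβC⟩ : C))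
    (by rw [Nat.card_zpowers, Subgroup.orderOf_mk, Z.five, pow_one])).exists_le_sylow
  have hcent : ∀ r : C, r ∈ (R₁ : Subgroup C) → Commute (r : G) β → (r : G) ∈ zpowers β := by
    intro r hr hcm
    obtain ⟨k, hk⟩ := R₁.isPGroup' ⟨r, hr⟩
    refine Z.five_mem (mem_centralizer_singleton_iff.1 r.2.1) hcm.eq ?_ (k := k)
      (by simpa using congrArg (fun q : R₁ => ((q : C) : G)) hk)
    rw [← hs, X.rho_fix (mem_centralizer_singleton_iff.1 r.2.1) (mem_centralizer_singleton_iff.1 r.2.2)]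
  have hbR : (⟨β, hβC⟩ : C) ∈ (R₁ : Subgroup C) := hR₁ (mem_zpowers _)
  haveI : Nontrivial (R₁ : Subgroup C) := ⟨⟨⟨_, hbR⟩, 1, fun e => by
    have h5 := Z.five
    have hb1 : β = 1 := congrArg (fun q : R₁ => ((q : C) : G)) e
    rw [hb1, orderOf_one] at h5
    norm_num at h5⟩⟩
  haveI := R₁.isPGroup'.center_nontrivial
  obtain ⟨⟨c, hc⟩, hc1⟩ := exists_ne (1 : center ↥(R₁ : Subgroup C))
  have hcc : ∀ r ∈ (R₁ : Subgroup C), Commute ((c : C) : G) (r : G) := fun r hr =>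
    (congrArg (fun q : R₁ => ((q : C) : G)) (mem_center_iff.1 hc ⟨r, hr⟩)).symm
  obtain ⟨i, hi⟩ := mem_zpowers_iff.1 (hcent c.1 c.2 (hcc _ hbR))
  have hgen : β ∈ zpowers ((c : C) : G) := by
    have hle : zpowers ((c : C) : G) ≤ zpowers β := zpowers_le.2 (hi ▸ zpow_mem_zpowers β i)
    have hd := Subgroup.card_dvd_of_le hle
    rw [Nat.card_zpowers, Nat.card_zpowers, Z.five] at hd
    rcases (Nat.dvd_prime (by norm_num)).1 hd with e | e
    · exact absurd (Subtype.ext (Subtype.ext (Subtype.ext (orderOf_eq_one_iff.1 e)))) hc1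
    · rw [Subgroup.eq_of_le_of_card_ge hle (by rw [Nat.card_zpowers, Nat.card_zpowers, Z.five, e])]
      exact mem_zpowers β
  have hR₁eq : ∀ r : C, r ∈ (R₁ : Subgroup C) → (r : G) ∈ zpowers β := fun r hr => hcent r hr (by
    obtain ⟨j, hj⟩ := mem_zpowers_iff.1 hgen
    rw [← hj]
    exact (hcc r hr).symm.zpow_right j)
  obtain ⟨R₂, hR₂⟩ := (IsPGroup.of_card (p := 5) (n := 1) (G := zpowers (⟨_, hγC⟩ : C))
    (by
      rw [Nat.card_zpowers, Subgroup.orderOf_mk, pow_one,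
        show w⁻¹ * β * w = MulAut.conj w⁻¹ β by simp, MulEquiv.orderOf_eq, Z.five])).exists_le_sylow
  obtain ⟨⟨k, hk⟩, hkR⟩ := MulAction.exists_smul_eq C R₂ R₁
  have hkγ : k * (w⁻¹ * β * w) * k⁻¹ ∈ zpowers β := hR₁eq
    (⟨k, hk⟩ * ⟨_, hγC⟩ * ⟨k, hk⟩⁻¹) (by
      rw [← hkR]
      exact Subgroup.smul_mem_pointwise_smul _ _ _ (hR₂ (mem_zpowers (⟨_, hγC⟩ : C))))
  obtain ⟨j, hj⟩ := mem_zpowers_iff.1 hkγ
  rw [← zpow_mod_orderOf, Z.five] at hj
  obtain ⟨j', hj'⟩ : ∃ j' : Fin 5, ((j' : ℕ) : ℤ) = j % 5 :=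
    ⟨⟨(j % 5).toNat, by omega⟩, Int.toNat_of_nonneg (Int.emod_nonneg _ (by norm_num))⟩
  rw [show ((5 : ℕ) : ℤ) = 5 by rfl, ← hj', zpow_natCast] at hj
  have hj0 : j' ≠ 0 := fun e => by
    rw [e, Fin.val_zero, pow_zero] at hj
    have h5 := Z.five
    rw [conj_eq_one_iff.1 (show k * (w⁻¹ * β * w) * k⁻¹ = 1 from hj.symm) |> fun h =>
      (show β = 1 from by
        calc β = w * (w⁻¹ * β * w) * w⁻¹ := by group
          _ = 1 := by rw [h]; group), orderOf_one] at h5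
    norm_num at h5
  obtain ⟨i₀, hi₀⟩ := exp_cases j' hj0
  have hpow : ∀ (n m : ℕ), h ^ n * β ^ m * (h ^ n)⁻¹ = β ^ (m * 2 ^ n) := by
    intro n
    induction n with
    | zero => intro m; simp
    | succ n ih =>
      intro m
      calc h ^ (n + 1) * β ^ m * (h ^ (n + 1))⁻¹ = h ^ n * (h * β * h⁻¹) ^ m * (h ^ n)⁻¹ := by
            rw [pow_succ, conj_pow]; group
        _ = h ^ n * β ^ (2 * m) * (h ^ n)⁻¹ := by rw [hh, ← pow_mul]
        _ = β ^ (m * 2 ^ (n + 1)) := by rw [ih]; congr 1; ring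
  set e' := h ^ (i₀ : ℕ) * k * w⁻¹ with he'
  have hz1 : Commute (h ^ (i₀ : ℕ) * k) z :=
    (Commute.pow_left hhz _).mul_left (mem_centralizer_singleton_iff.1 hk.1)
  have hs1 : Commute (h ^ (i₀ : ℕ) * k) s :=
    (Commute.pow_left hhs _).mul_left (mem_centralizer_singleton_iff.1 hk.2)
  have heβ : e' * β * e'⁻¹ = β := by
    calc e' * β * e'⁻¹ = h ^ (i₀ : ℕ) * (k * (w⁻¹ * β * w) * k⁻¹) * (h ^ (i₀ : ℕ))⁻¹ := by
          rw [he']; group
      _ = β ^ ((j' : ℕ) * 2 ^ (i₀ : ℕ)) := by rw [← hj, hpow]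
      _ = β := by rw [← pow_mod_orderOf, Z.five, hi₀, pow_one]
  refine ⟨e', mul_inv_eq_iff_eq_mul.1 heβ, ?_, ?_⟩
  · calc e' * z * e'⁻¹ = h ^ (i₀ : ℕ) * k * (w⁻¹ * z * w) * (h ^ (i₀ : ℕ) * k)⁻¹ := by
          rw [he']; group
      _ = s := by
        rw [show w⁻¹ * z * w = s by rw [← hw2]; group, hs1.eq, mul_inv_cancel_right]
  · calc e' * s * e'⁻¹ = h ^ (i₀ : ℕ) * k * (w⁻¹ * s * w) * (h ^ (i₀ : ℕ) * k)⁻¹ := by
          rw [he']; group
      _ = z := by
        rw [show w⁻¹ * s * w = z by rw [← hw1]; group, hz1.eq, mul_inv_cancel_right]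

end Fv

end Cfsg.Agent.CoFive
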